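import Cfsg.Agent.Lib.KnownB.ThompsonF42.Minor

/-!
The big cell of twisted `F₄` is cut out by the corner entry and the minor, and meets every class.
-/

set_option autoImplicit false
set_option maxRecDepth 100000

namespace CfsgLib.ThompsonF42

open Cfsg.Lie Matrix CfsgLib.Chev

variable {K : Type*} [Field K] [CharP K 2] {σ : K →+* K}

local notation "g₄" => stdF4.good
local notation "G₄" => GL chevF4.Idx K

/-- the fixed upper unipotent subgroup -/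
noncomputable def UT (σ : K →+* K) : Subgroup G₄ := chevF4.posUnipotent K ⊓ (F42.tw σ).fix
/-- the fixed lower unipotent subgroup -/
noncomputable def LT (σ : K →+* K) : Subgroup G₄ := chevF4.negUnipotent K ⊓ (F42.tw σ).fix

/-! ### the longest element -/

theorem long_tab : (ftabF42.any fun e => decide (e.cnt = 24) && (List.range 48).all fun r =>
    decide (wf auxF4 (foldF42.flat e.word) r = auxF4.neg r)) = true := by decide +kernel

theorem exists_long {F : Type*} [Field F] (_σ : F →+* F) : ∃ e ∈ ftabF42, e.cnt = chevF4.posRoots.length ∧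
    ∀ r < chevF4.nroots, wf auxF4 (foldF42.flat e.word) r = auxF4.neg r := by
  obtain ⟨e, he, h⟩ := List.any_eq_true.1 long_tab
  rw [Bool.and_eq_true, decide_eq_true_eq, List.all_eq_true] at h
  refine ⟨e, he, ?_, fun r hr => of_decide_eq_true (h.2 r (List.mem_range.2 (nroots_eq ▸ hr)))⟩
  rw [h.1, posL_eq]; rfl

/-- the longest element of the fixed group -/
noncomputable def wz (σ : K →+* K) : G₄ :=
  nW K g₄ (foldF42.flat (exists_long σ).choose.word)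

theorem wz_fix : wz σ ∈ (F42.tw σ).fix :=
  (F42.tw σ).nFlat_fix (ftabF42_ok.letters _ (exists_long σ).choose_spec.1)

theorem wz_monomial : wz σ ∈ chevF4.monomialSubgroup K :=
  nW_mem g₄ ((F42.tw σ).valid.flat_letters (ftabF42_ok.letters _ (exists_long σ).choose_spec.1))

theorem wz_acts : ∃ s : ℕ → ℕ, Acts g₄ (wz σ) s ∧ ∀ r < chevF4.nroots, s r = auxF4.neg r :=
  ⟨_, nW_acts g₄ ((F42.tw σ).valid.flat_letters
    (ftabF42_ok.letters _ (exists_long σ).choose_spec.1)), (exists_long σ).choose_spec.2.2⟩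

theorem wz_conj_pos {u : G₄} (hu : u ∈ UT σ) : wz σ * u * (wz σ)⁻¹ ∈ LT σ := by
  refine ⟨?_, Subgroup.mul_mem _ (Subgroup.mul_mem _ wz_fix hu.2) (Subgroup.inv_mem _ wz_fix)⟩
  obtain ⟨s, hs, hn⟩ := wz_acts (σ := σ)
  have h : u ∈ UP K g₄ chevF4.IsPosRoot := (posUnipotent_eq g₄).le hu.1
  rw [negUnipotent_eq g₄]
  refine conj_UP_le hs (fun r hr => hr.1) (fun r t hr => xG_mem_UP g₄ ?_ t) h
  show chevF4.IsNegRoot (s r)
  rw [hn r hr.1]
  exact isNeg_of_not_pos g₄ (stdF4.good.neg_lt r hr.1) (not_pos_neg g₄ hr)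

theorem wz_conj_neg {u : G₄} (hu : u ∈ LT σ) : wz σ * u * (wz σ)⁻¹ ∈ UT σ := by
  refine ⟨?_, Subgroup.mul_mem _ (Subgroup.mul_mem _ wz_fix hu.2) (Subgroup.inv_mem _ wz_fix)⟩
  obtain ⟨s, hs, hn⟩ := wz_acts (σ := σ)
  have h : u ∈ UP K g₄ chevF4.IsNegRoot := (negUnipotent_eq g₄).le hu.1
  rw [posUnipotent_eq g₄]
  refine conj_UP_le hs (fun r hr => hr.1) (fun r t hr => xG_mem_UP g₄ ?_ t) h
  show chevF4.IsPosRoot (s r)
  rw [hn r hr.1]
  exact (pos_or_pos_neg g₄ hr.1).resolve_left (not_pos_of_isNeg g₄ hr)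

theorem wz_conj_tor (c : Fin chevF4.rank → Kˣ) :
    wz σ * tor chevF4 auxF4 c * (wz σ)⁻¹ = (tor chevF4 auxF4 c)⁻¹ := by
  obtain ⟨d, hd⟩ := monomial_conj_tor g₄ (wz_monomial (σ := σ)) c
  obtain ⟨s, hs, hn⟩ := wz_acts (σ := σ)
  rw [hd, eq_inv_iff_mul_eq_one, ← map_mul, tor_eq_one_iff g₄]
  funext k
  show chi chevF4 auxF4 (d * c) (chevF4.simple k) = 1
  have hlt : chevF4.simple k < chevF4.nroots := stdF4.good.simple_lt k k.isLt
  have hnlt := stdF4.good.neg_lt _ hlt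
  obtain ⟨κ, hκ, hconj⟩ := hs.conj _ hlt
  have h1 : xG g₄ (s (chevF4.simple k)) (κ * (chi chevF4 auxF4 c (chevF4.simple k) : K)) =
      xG g₄ (s (chevF4.simple k)) ((chi chevF4 auxF4 d (s (chevF4.simple k)) : K) * κ) := by
    rw [← tor_conj_xG g₄ d (hs.map.1 _ hlt), ← hd, ← hconj,
      show xG g₄ (s (chevF4.simple k)) κ =
        wz σ * xG g₄ (chevF4.simple k) 1 * (wz σ)⁻¹ by rw [hconj, mul_one],
      show xG g₄ (chevF4.simple k) (chi chevF4 auxF4 c (chevF4.simple k) : K) =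
        tor chevF4 auxF4 c * xG g₄ (chevF4.simple k) 1 * (tor chevF4 auxF4 c)⁻¹ by
          rw [tor_conj_xG g₄ c hlt, mul_one]]
    group
  have h2 := CfsgLib.KnownB.ChevField.xG_inj stdF4 (hs.map.1 _ hlt) h1
  have h3 : chi chevF4 auxF4 c (chevF4.simple k) = chi chevF4 auxF4 d (s (chevF4.simple k)) :=
    Units.ext (mul_left_cancel₀ hκ (h2.trans (mul_comm _ _)))
  rw [hn _ hlt, chi_neg g₄ d hlt] at h3
  rw [chi_mul, h3, mul_inv_cancel]

theorem tor_fix {c : Fin chevF4.rank → Kˣ} (hc : c ∈ (F42.tw σ).thetaFix) :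
    tor chevF4 auxF4 c ∈ (F42.tw σ).fix :=
  ((F42.tw σ).tor_mem_fix_iff c).2 (by rw [(F42.tw σ).mem_thetaFix.1 hc])

theorem diag_thetaFix {t : G₄} (h1 : t ∈ chevF4.diagonalSubgroup K) (h2 : t ∈ (F42.tw σ).fix) :
    ∃ c ∈ (F42.tw σ).thetaFix, tor chevF4 auxF4 c = t := by
  have h : t ∈ chevF4.diagonalSubgroup K ⊓ (F42.tw σ).fix := ⟨h1, h2⟩
  rw [F42.diag_eq] at h
  exact h

theorem tor_conj_LT {c : Fin chevF4.rank → Kˣ} (hc : c ∈ (F42.tw σ).thetaFix) {u : G₄}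
    (hu : u ∈ LT σ) : tor chevF4 auxF4 c * u * (tor chevF4 auxF4 c)⁻¹ ∈ LT σ := by
  refine ⟨?_, Subgroup.mul_mem _ (Subgroup.mul_mem _ (tor_fix hc) hu.2) (Subgroup.inv_mem _ (tor_fix hc))⟩
  have h : u ∈ UP K g₄ chevF4.IsNegRoot := (negUnipotent_eq g₄).le hu.1
  rw [negUnipotent_eq g₄]
  exact conj_UP_le (σ := id) (acts_tor g₄ c) (fun r hr => hr.1) (fun r t hr => xG_mem_UP g₄ hr t) h

theorem tor_conj_UT {c : Fin chevF4.rank → Kˣ} (hc : c ∈ (F42.tw σ).thetaFix) {u : G₄}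
    (hu : u ∈ UT σ) : tor chevF4 auxF4 c * u * (tor chevF4 auxF4 c)⁻¹ ∈ UT σ := by
  refine ⟨?_, Subgroup.mul_mem _ (Subgroup.mul_mem _ (tor_fix hc) hu.2) (Subgroup.inv_mem _ (tor_fix hc))⟩
  exact tor_conj_posUnipotent g₄ c hu.1

/-- `y` is conjugate to `v * t * w` for the torus element with coordinates `c` -/
def St (σ : K →+* K) (y : G₄) (c : Fin chevF4.rank → Kˣ) : Prop :=
  ∃ x ∈ (F42.tw σ).fix, ∃ v ∈ LT σ, ∃ w ∈ UT σ, x * y * x⁻¹ = v * tor chevF4 auxF4 c * w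

theorem St.inv {y : G₄} {c : Fin chevF4.rank → Kˣ} (h : St σ y c) : St σ y⁻¹ c := by
  obtain ⟨x, hx, v, hv, w, hw, e⟩ := h
  refine ⟨wz σ * x, mul_mem wz_fix hx, _, wz_conj_pos (inv_mem hw), _, wz_conj_neg (inv_mem hv), ?_⟩
  have e2 : x * y⁻¹ * x⁻¹ = w⁻¹ * (tor chevF4 auxF4 c)⁻¹ * v⁻¹ := by
    have := congrArg (·⁻¹) e
    simp only [_root_.mul_inv_rev, inv_inv, mul_assoc] at this ⊢
    exact this
  have e3 : wz σ * (tor chevF4 auxF4 c)⁻¹ * (wz σ)⁻¹ = tor chevF4 auxF4 c := by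
    rw [← map_inv, wz_conj_tor, map_inv, inv_inv]
  rw [show wz σ * x * y⁻¹ * (wz σ * x)⁻¹ = wz σ * (x * y⁻¹ * x⁻¹) * (wz σ)⁻¹ by group, e2]
  conv_rhs => rw [← e3]
  group

theorem cell_tab : ∀ e ∈ ftabF42, let a := auxF4.neg (wf auxF4 (foldF42.flat e.word) 44)
    let b := auxF4.neg (wf auxF4 (foldF42.flat e.word) 40)
    XA (4 + a) = true ∧ XA (4 + b) = true ∧ a ≠ b ∧
      (a = 44 → b = 40 → ∀ r < 48, auxF4.neg (wf auxF4 (foldF42.flat e.word) r) = r) := by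
  decide +kernel

/-- the big cell is cut out by the corner entry and the minor -/
theorem cell_of_corner [Fintype K] {g : G₄} (hg : g ∈ (F42.tw σ).fix) (h1 : g.val p1 p1 ≠ 0)
    (h2 : mn g.val ≠ 0) :
    ∃ c ∈ (F42.tw σ).thetaFix, (c (F42.ix 0) : K) = g.val p1 p1 ∧ (c (F42.ix 1) : K) = mn g.val ∧
      ∃ v ∈ LT σ, ∃ w ∈ UT σ, g = v * tor chevF4 auxF4 c * w := by
  have hwz : wz σ ∈ (F42.tw σ).fix := wz_fix
  obtain ⟨u, hu, t, ht, e, he, v, hv, eg⟩ :=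
    (F42.tw σ).fix_decomp ftabF42_ok (mul_mem (inv_mem hwz) hg)
  have hl : Letters chevF4 (foldF42.flat e.word) :=
    (F42.tw σ).valid.flat_letters (ftabF42_ok.letters e he)
  obtain ⟨ct, hct⟩ : ∃ ct, tor chevF4 auxF4 ct = t := by
    have := ht.1
    rw [SetLike.mem_coe, diagonalSubgroup_eq g₄] at this
    exact this
  obtain ⟨s0, hs0, hneg⟩ := wz_acts (σ := σ)
  set ne := nW K g₄ (foldF42.flat e.word) with hne
  set n := wz σ * t * ne with hn
  set L := wz σ * u * (wz σ)⁻¹ with hL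
  have hLm : L ∈ LT σ := wz_conj_pos hu
  have hv' : v ∈ UT σ := (F42.tw σ).V_le_pos _ hv
  have eg' : g = L * n * v := by
    rw [hL, hn, show wz σ * u * (wz σ)⁻¹ * (wz σ * t * ne) * v = wz σ * (u * t * ne * v) by group,
      ← eg, mul_inv_cancel_left]
  have hA : Acts g₄ n (s0 ∘ id ∘ wf auxF4 (foldF42.flat e.word)) := by
    have := (hs0.mul (acts_tor (F := K) g₄ ct)).mul (nW_acts (F := K) g₄ hl)
    rwa [hct] at this
  set s := s0 ∘ id ∘ wf auxF4 (foldF42.flat e.word) with hs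
  have hsr : ∀ r < 48, s r = auxF4.neg (wf auxF4 (foldF42.flat e.word) r) := fun r hr =>
    hneg _ (wf_lt g₄ hl (nroots_eq.symm ▸ hr))
  obtain ⟨tA, tB, tne, tid⟩ := cell_tab e he
  rw [← hsr 44 (by norm_num)] at tA tne tid
  rw [← hsr 40 (by norm_num)] at tB tne tid
  have hlt : ∀ r < 48, s r < 48 := fun r hr => nroots_eq ▸ hA.map.1 r (nroots_eq.symm ▸ hr)
  set A : chevF4.Idx := rc ⟨s 44, hlt 44 (by norm_num)⟩ with hAdef
  set B : chevF4.Idx := rc ⟨s 40, hlt 40 (by norm_num)⟩ with hBdef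
  have hcolroot : ∀ (r : Fin 48), ∃ k : K, k ≠ 0 ∧ ∀ x : chevF4.Idx,
      n.val x (rc r) = if idx chevF4 x = 4 + s r.val then k else 0 := by
    intro r
    obtain ⟨k, hk, ek⟩ := hA.root r.val (nroots_eq.symm ▸ r.isLt)
    refine ⟨k, hk, fun x => ?_⟩
    have := congrFun ek x
    rw [show chevF4.rank + r.val = idx chevF4 (rc r) from rfl, mulVec_ev, Pi.smul_apply, smul_eq_mul, ev] at this
    refine this.trans ?_
    show k * (if idx chevF4 x = 4 + s r.val then (1 : K) else 0) = _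
    split_ifs <;> simp
  obtain ⟨k1, hk1, c1⟩ := hcolroot 44
  obtain ⟨k2, hk2, c2⟩ := hcolroot 40
  -- the two columns of `n * v`
  have hv4 := pos_blk hv'.1 blk_tabs.2.2.2.1
  have hv3 := pos_blk hv'.1 blk_tabs.2.2.1
  have colA : ∀ x, (n * v).val x p1 = if idx chevF4 x = 4 + s 44 then k1 else 0 := by
    intro x
    rw [Units.val_mul, Matrix.mul_apply, Finset.sum_eq_single p1]
    · rw [tri_pos hv'.1, mul_one]; exact c1 x
    · intro z _ hz
      rw [hv3 z p1 (by rw [idx_p1]; exact X_p.2.2.2.2.2.2.2.2) (decide_eq_false fun h => hz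
        (idx_inj (h.trans idx_p1.symm))), mul_zero]
    · simp
  have colB : ∀ x, (n * v).val x p2 = v.val p1 p2 * (if idx chevF4 x = 4 + s 44 then k1 else 0) +
      (if idx chevF4 x = 4 + s 40 then k2 else 0) := by
    intro x
    rw [Units.val_mul, Matrix.mul_apply, Fintype.sum_eq_add p1 p2 p1_ne_p2]
    · rw [tri_pos hv'.1, mul_one, mul_comm]
      congr 1
      · exact congrArg (v.val p1 p2 * ·) (c1 x)
      · exact c2 x
    · rintro z ⟨hz1, hz2⟩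
      rw [hv4 z p2 (by rw [idx_p2]; exact X_p.2.2.2.2.2.2.2.1) (Bool.or_eq_false_iff.2
        ⟨decide_eq_false fun h => hz1 (idx_inj (h.trans idx_p1.symm)),
          decide_eq_false fun h => hz2 (idx_inj (h.trans idx_p2.symm))⟩), mul_zero]
  have hone : ∀ (x : chevF4.Idx) (X : chevF4.Idx) (r : ℕ) (k : K), idx chevF4 X = 4 + r →
      (∑ z, L.val x z * if idx chevF4 z = 4 + r then k else 0) = L.val x X * k := by
    intro x X r k hX
    rw [Finset.sum_eq_single X]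
    · rw [if_pos hX]
    · intro z _ hz
      rw [if_neg fun h => hz (idx_inj (h.trans hX.symm)), mul_zero]
    · simp
  have entA : ∀ x, g.val x p1 = L.val x A * k1 := by
    intro x
    rw [eg', mul_assoc, Units.val_mul L, Matrix.mul_apply]
    simp only [colA]
    exact hone x A _ k1 (idx_rc _)
  have entB : ∀ x, g.val x p2 = v.val p1 p2 * (L.val x A * k1) + L.val x B * k2 := by
    intro x
    rw [eg', mul_assoc, Units.val_mul L, Matrix.mul_apply]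
    simp only [colB, mul_add, Finset.sum_add_distrib, mul_left_comm (L.val x _) (v.val p1 p2),
      ← Finset.mul_sum]
    rw [hone x A _ k1 (idx_rc _), hone x B _ k2 (idx_rc _)]
  have hA1 : A = p1 := by
    by_contra h
    refine h1 ?_
    rw [entA, neg_blk hLm.1 blk_tabs.1 p1 A ?_ (by rw [idx_p1]; exact X_p.1), zero_mul]
    rw [idx_rc, X1, tA, Bool.true_and, decide_eq_true_eq]
    exact fun e => h (idx_inj ((idx_rc _).trans (e.trans idx_p1.symm)))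
  have hBA : idx chevF4 B ≠ 48 := fun e => tne (by
    have := congrArg (idx chevF4) hA1
    simp only [hAdef, hBdef, idx_rc, idx_p1] at this e
    omega)
  have hB1 : L.val p1 B = 0 := neg_blk hLm.1 blk_tabs.1 p1 B
    (by rw [idx_rc] at hBA ⊢; rw [X1, tB, Bool.true_and, decide_eq_true_eq]; exact hBA)
    (by rw [idx_p1]; exact X_p.1)
  have hmn : mn g.val = k1 * k2 * L.val p2 B := by
    rw [mn, entA, entA, entB, entB, hA1, tri_neg hLm.1, hB1]
    ring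
  have hB2 : B = p2 := by
    by_contra h
    refine h2 ?_
    rw [hmn, neg_blk hLm.1 blk_tabs.2.1 p2 B ?_ (by rw [idx_p2]; exact X_p.2.1), mul_zero]
    rw [X2, X1, idx_rc]
    rw [idx_rc] at hBA
    simp only [tB, Bool.true_and, Bool.and_eq_true, decide_eq_true_eq]
    exact ⟨hBA, fun e => h (idx_inj ((idx_rc _).trans (e.trans idx_p2.symm)))⟩
  have a44 : s 44 = 44 := by
    have := congrArg (idx chevF4) hA1; simp only [hAdef, idx_rc, idx_p1] at this; omega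
  have b40 : s 40 = 40 := by
    have := congrArg (idx chevF4) hB2; simp only [hBdef, idx_rc, idx_p2] at this; omega
  have hid : ∀ r < chevF4.nroots, s r = r := fun r hr => by
    have hr' : r < 48 := nroots_eq ▸ hr
    rw [hsr r hr']; exact tid a44 b40 r hr'
  have hnN : n ∈ chevF4.monomialSubgroup K :=
    mul_mem (mul_mem wz_monomial (diag_le_monomial_of_good g₄ ht.1)) (nW_mem g₄ hl)
  obtain ⟨c, hc, ec⟩ := diag_thetaFix (σ := σ) (mem_diag_of_id stdF4 hnN hA hid)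
    (mul_mem (mul_mem hwz ht.2) ((F42.tw σ).nFlat_fix (ftabF42_ok.letters e he)))
  rw [← ec] at eg'
  obtain ⟨r1, r2⟩ := corner_cell hLm.1 c hv'.1
  rw [← eg'] at r1 r2
  exact ⟨c, hc, r1.symm, r2.symm, L, hLm, v, hv', eg'⟩

/-! ### counting -/

theorem count_ineq {q : ℕ} (h : 8 ≤ q) :
    (q ^ 3 + 1) * (q ^ 3 + q ^ 2 + q + 1) * (q ^ 6 + 1) < 2 * q ^ 12 := by
  have h2 : 8 * q ≤ q ^ 2 := by rw [sq]; exact Nat.mul_le_mul_right _ h
  have h3 : 8 * q ^ 2 ≤ q ^ 3 := by rw [pow_succ q 2, mul_comm]; exact Nat.mul_le_mul_left _ h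
  have b1 : 512 * (q ^ 3 + 1) ≤ 513 * q ^ 3 := by
    have : 512 ≤ q ^ 3 := Nat.pow_le_pow_left h 3
    omega
  have b2 : 512 * (q ^ 3 + q ^ 2 + q + 1) ≤ 585 * q ^ 3 := by omega
  have b3 : 512 * (q ^ 6 + 1) ≤ 513 * q ^ 6 := by
    have : 512 ≤ q ^ 6 := le_trans (Nat.pow_le_pow_left h 3) (Nat.pow_le_pow_right (by omega) (by norm_num))
    omega
  have hb := Nat.mul_le_mul (Nat.mul_le_mul b1 b2) b3
  have e : 513 * q ^ 3 * (585 * q ^ 3) * (513 * q ^ 6) = 153953865 * q ^ 12 := by ring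
  rw [e] at hb
  have hpos : 0 < q ^ 12 := by positivity
  nlinarith

theorem exists_cell [Fintype K] (hi : F42.Inv2 σ) (h8 : 8 ≤ Fintype.card K) {y : G₄}
    (hy : y ∈ (F42.tw σ).fix) : ∃ c ∈ (F42.tw σ).thetaFix, St σ y c := by
  classical
  haveI : Finite G₄ := finite_GL
  obtain ⟨q, hq⟩ : ∃ q, Fintype.card K = q := ⟨_, rfl⟩
  rw [hq] at h8
  obtain ⟨he, hcnt, -⟩ := (exists_long σ).choose_spec
  have hV := (F42.tw σ).pos_eq_V ftabF42_ok he hcnt
  let U := UT σ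
  let T := chevF4.diagonalSubgroup K ⊓ (F42.tw σ).fix
  let F : (↥U × ↥T) × ↥U → ↥((F42.tw σ).fix) := fun p =>
    ⟨p.1.1 * p.1.2 * wz σ * p.2,
      mul_mem (mul_mem (mul_mem p.1.1.2.2 p.1.2.2.2) wz_fix) p.2.2.2⟩
  have hF : Function.Injective F := by
    rintro ⟨⟨⟨u, hu⟩, ⟨t, ht⟩⟩, ⟨v, hv⟩⟩ ⟨⟨⟨u', hu'⟩, ⟨t', ht'⟩⟩, ⟨v', hv'⟩⟩ h
    have h' : u * t * wz σ * v = u' * t' * wz σ * v' := congrArg Subtype.val h
    obtain ⟨rfl, rfl, -, rfl⟩ := (F42.tw σ).fix_unique ftabF42_ok hu.1 hu'.1 ht.1 ht'.1 he he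
      (by rw [← hV]; exact hv) (by rw [← hV]; exact hv') h'
    rfl
  obtain ⟨hU, hX⟩ := F42.orders hi hq
  have hcard : Nat.card ↥((F42.tw σ).fix) < 2 * Nat.card ((↥U × ↥T) × ↥U) := by
    rw [Nat.card_prod, Nat.card_prod, show Nat.card ↥U = q ^ 12 from hU, hX, F42.card_diag hi, hq]
    have h4 : q ^ 4 - 1 = (q ^ 3 + q ^ 2 + q + 1) * (q - 1) := by
      obtain ⟨p, rfl⟩ : ∃ p, q = p + 1 := ⟨q - 1, by omega⟩
      rw [Nat.add_sub_cancel]
      exact Nat.sub_eq_of_eq_add (by ring)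
    have hp : 0 < q ^ 12 * (q - 1) * (q - 1) := by
      have a1 : 0 < q - 1 := by omega
      positivity
    calc q ^ 12 * (q - 1) * (q ^ 3 + 1) * (q ^ 4 - 1) * (q ^ 6 + 1)
        = q ^ 12 * (q - 1) * (q - 1) * ((q ^ 3 + 1) * (q ^ 3 + q ^ 2 + q + 1) * (q ^ 6 + 1)) := by
          rw [h4]; ring
      _ < q ^ 12 * (q - 1) * (q - 1) * (2 * q ^ 12) :=
          Nat.mul_lt_mul_of_pos_left (count_ineq h8) hp
      _ = _ := by ring
  obtain ⟨p, p', hpp⟩ : ∃ p p', y * (F p : G₄) = F p' := by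
    by_contra h
    push Not at h
    let S : Sum ((↥U × ↥T) × ↥U) ((↥U × ↥T) × ↥U) → ↥((F42.tw σ).fix) :=
      Sum.elim F (fun p => ⟨y, hy⟩ * F p)
    have hS : Function.Injective S := by
      refine hF.sumElim (fun a b e => hF (mul_left_cancel e)) fun a b e => ?_
      exact h b a (congrArg Subtype.val e).symm
    have := Nat.card_le_card_of_injective S hS
    rw [Nat.card_sum] at this
    omega
  obtain ⟨⟨⟨u₁, hu₁⟩, ⟨t₁, ht₁⟩⟩, ⟨v₁, hv₁⟩⟩ := p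
  obtain ⟨⟨⟨u₂, hu₂⟩, ⟨t₂, ht₂⟩⟩, ⟨v₂, hv₂⟩⟩ := p'
  change y * (u₁ * t₁ * wz σ * v₁) = u₂ * t₂ * wz σ * v₂ at hpp
  obtain ⟨c, hc, ec⟩ := diag_thetaFix (σ := σ) (t := t₂ * t₁⁻¹) (mul_mem ht₂.1 (inv_mem ht₁.1))
    (mul_mem ht₂.2 (inv_mem ht₁.2))
  obtain ⟨c₁, hc₁, ec₁⟩ := diag_thetaFix (σ := σ) ht₁.1 ht₁.2
  set n := wz σ * (v₂ * v₁⁻¹) * (wz σ)⁻¹
  have hn : n ∈ LT σ := wz_conj_pos (mul_mem hv₂ (inv_mem hv₁))
  have hw : u₁⁻¹ * u₂ ∈ UT σ := mul_mem (inv_mem hu₁) hu₂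
  have hn' := tor_conj_LT hc (tor_conj_LT hc₁ hn)
  rw [ec, ec₁] at hn'
  refine ⟨c, hc, (u₁⁻¹ * u₂)⁻¹ * u₁⁻¹, Subgroup.mul_mem _ (Subgroup.inv_mem _ hw.2) (Subgroup.inv_mem _ hu₁.2),
    _, hn', _, hw, ?_⟩
  have hy' : y = u₂ * t₂ * n * t₁⁻¹ * u₁⁻¹ := by
    rw [show y = u₂ * t₂ * wz σ * v₂ * (u₁ * t₁ * wz σ * v₁)⁻¹ by rw [← hpp]; group]
    simp only [n]
    group
  rw [ec, hy']
  group

end CfsgLib.ThompsonF42
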