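import Cfsg.Agent.Lib.Chev.Twist.Fam.F4
import Cfsg.Agent.Lib.Chev.OrdList

/-!
The two highest short root coordinates of `F₄` in characteristic two: block shapes of the unipotent
subgroups and the leading minor of a product in the big cell.
-/

set_option autoImplicit false
set_option maxRecDepth 100000

namespace CfsgLib.ThompsonF42

open Cfsg.Lie Matrix CfsgLib.Chev

variable {K : Type*} [Field K] [CharP K 2]

local notation "g₄" => stdF4.good
local notation "G₄" => GL chevF4.Idx K

theorem nroots_eq : chevF4.nroots = 48 := by decide +kernel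

theorem rank_eq : chevF4.rank = 4 := rfl

/-- the coordinate of a root -/
noncomputable def rc (r : Fin 48) : chevF4.Idx := Sum.inr (r.cast nroots_eq.symm)

theorem idx_rc (r : Fin 48) : idx chevF4 (rc r) = 4 + r.val := rfl

theorem idx_lt52 (x : chevF4.Idx) : idx chevF4 x < 52 := by
  rcases x with i | s
  · exact lt_of_lt_of_le (show i.val < 4 from i.isLt) (by norm_num)
  · exact Nat.add_lt_add_left (show s.val < 48 from nroots_eq ▸ s.isLt) 4

theorem rc_eq {x : chevF4.Idx} {r : Fin 48} (h : idx chevF4 x = 4 + r.val) : x = rc r :=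
  idx_inj (h.trans (idx_rc r).symm)

/-- the highest short root -/
noncomputable abbrev p1 : chevF4.Idx := rc 44
/-- the next short root -/
noncomputable abbrev p2 : chevF4.Idx := rc 40

theorem p1_ne_p2 : p1 ≠ p2 := fun e => by
  have := congrArg (idx chevF4) e
  rw [idx_rc, idx_rc] at this
  exact absurd this (by decide)

/-- the leading minor -/
noncomputable def mn (M : Matrix chevF4.Idx chevF4.Idx K) : K :=
  M p1 p1 * M p2 p2 - M p1 p2 * M p2 p1

theorem cast_even {z : ℤ} (h : z % 2 = 0) : (z : K) = 0 := by
  rw [show z = 2 * (z / 2) by omega, Int.cast_mul, Int.cast_ofNat, CharTwo.two_eq_zero, zero_mul]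

/-! ### block shapes -/

/-- a set of coordinates -/
abbrev CS := ℕ → Bool

/-- `M` maps the span of the coordinates in `X` into itself -/
def Blk (X : CS) (M : Matrix chevF4.Idx chevF4.Idx K) : Prop :=
  ∀ x z, X (idx chevF4 z) = true → X (idx chevF4 x) = false → M x z = 0

omit [CharP K 2] in
theorem blk_one (X : CS) : Blk X (1 : Matrix chevF4.Idx chevF4.Idx K) := fun x z hz hx =>
  Matrix.one_apply_ne fun e => by rw [e, hz] at hx; exact Bool.noConfusion hx

omit [CharP K 2] in
theorem blk_mul {X : CS} {M N : Matrix chevF4.Idx chevF4.Idx K} (hM : Blk X M) (hN : Blk X N) :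
    Blk X (M * N) := by
  intro x z hz hx
  rw [Matrix.mul_apply]
  refine Finset.sum_eq_zero fun y _ => ?_
  cases hy : X (idx chevF4 y)
  · rw [hN y z hz hy, mul_zero]
  · rw [hM x y hy hx, zero_mul]

/-- the stabiliser of a span of coordinates -/
def blkG (X : CS) : Subgroup G₄ where
  carrier := {y | Blk X (y : Matrix chevF4.Idx chevF4.Idx K) ∧
    Blk X ((y⁻¹ : G₄) : Matrix chevF4.Idx chevF4.Idx K)}
  one_mem' := by simp [blk_one]
  mul_mem' := fun {a c} ha hc => ⟨by rw [Units.val_mul]; exact blk_mul ha.1 hc.1, by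
    rw [_root_.mul_inv_rev, Units.val_mul]; exact blk_mul hc.2 ha.2⟩
  inv_mem' := fun {a} ha => ⟨ha.2, by rw [inv_inv]; exact ha.1⟩

/-- the table behind `blkG` -/
noncomputable def blkChk (P : List ℕ) (X : CS) : Bool :=
  P.all fun r => decide (r < 48) && (List.range 52).all fun c => !X c ||
    (auxF4.col 4 48 r c).all fun q => decide (q.2.1 % 2 = 0) || X q.1

/-- an entry of a root element -/
theorem x_apply {r : ℕ} (hr : r < 48) (t : K) (x y : chevF4.Idx) :
    (chevF4.x K r t) x y = (if x = y then 1 else 0) +
      ((auxF4.col 4 48 r (idx chevF4 y)).map fun q =>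
        if idx chevF4 x = q.1 then (q.2.1 : K) * t ^ q.2.2 else 0).sum := by
  have h := congrFun (x_mulVec (F := K) stdF4.good (show r < chevF4.nroots by rw [nroots_eq]; exact hr) t
    (idx chevF4 y)) x
  rw [mulVec_ev] at h
  refine h.trans ?_
  rw [Pi.add_apply, tval_apply, show auxF4.col chevF4.rank chevF4.nroots = auxF4.col 4 48 by
    rw [nroots_eq]; rfl]
  congr 1
  by_cases e : x = y
  · subst e; simp [ev]
  · have e2 : idx chevF4 x ≠ idx chevF4 y := fun e' => e (idx_inj e')
    simp [ev, e, e2]

theorem xG_blk {P : List ℕ} {X : CS} (h : blkChk P X = true) {r : ℕ} (hr : r ∈ P) (t : K) :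
    xG g₄ r t ∈ blkG X := by
  obtain ⟨hlt, hall⟩ := Bool.and_eq_true_iff.1 (List.all_eq_true.1 h r hr)
  have hlt' : r < 48 := of_decide_eq_true hlt
  have key : ∀ t : K, Blk X (chevF4.x K r t) := by
    intro t x z hz hx
    rw [x_apply hlt' t x z, if_neg, List.sum_eq_zero, add_zero]
    · intro v hv
      obtain ⟨q, hq, rfl⟩ := List.mem_map.1 hv
      have := List.all_eq_true.1 hall _ (List.mem_range.2 (idx_lt52 z))
      rw [hz, Bool.not_true, Bool.false_or] at this
      rcases Bool.or_eq_true_iff.1 (List.all_eq_true.1 this q hq) with h1 | h1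
      · simp [cast_even (K := K) (of_decide_eq_true h1)]
      · rw [if_neg]; intro e; rw [e, h1] at hx; exact Bool.noConfusion hx
    · rintro rfl; rw [hz] at hx; exact Bool.noConfusion hx
  refine ⟨?_, ?_⟩
  · rw [xG_val]; exact key t
  · rw [xG_inv, xG_val]; exact key (-t)

/-- the numbers of the positive roots -/
def posL : List ℕ := (List.range 24).map (24 + ·)
/-- the numbers of the negative roots -/
def negL : List ℕ := List.range 24

theorem posL_eq : chevF4.posRoots = posL := by decide +kernel

theorem neg_lt24 : ∀ r : Fin 48, chevF4.IsNegRoot r.val → r.val ∈ negL := by decide +kernel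

theorem pos_le {S : Subgroup G₄} (h : ∀ r ∈ posL, ∀ t, xG g₄ r t ∈ S) :
    chevF4.posUnipotent K ≤ S := by
  rw [posUnipotent_eq g₄]
  exact UP_le fun r t hr => h r (posL_eq ▸ posRoots_mem.2 hr) t

theorem neg_le {S : Subgroup G₄} (h : ∀ r ∈ negL, ∀ t, xG g₄ r t ∈ S) :
    chevF4.negUnipotent K ≤ S := by
  rw [negUnipotent_eq g₄]
  exact UP_le fun r t hr => h r (neg_lt24 ⟨r, nroots_eq ▸ hr.1⟩ hr) t

/-- the coordinates of the positive short roots -/
def Sp : CS := fun k => [27, 28, 29, 33, 34, 35, 36, 37, 38, 39, 40, 44].contains (k - 4) && decide (4 ≤ k)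
/-- the coordinates outside the positive long roots -/
def XA : CS := fun k => [24, 25, 26, 30, 31, 32, 41, 42, 43, 45, 46, 47].all (fun r => decide (k ≠ 4 + r))
/-- without the highest short root -/
def X1 : CS := fun k => XA k && decide (k ≠ 48)
/-- without the two highest short roots -/
def X2 : CS := fun k => X1 k && decide (k ≠ 44)
/-- the line of the highest short root -/
def X3 : CS := fun k => decide (k = 48)
/-- the plane of the two highest short roots -/
def X4 : CS := fun k => decide (k = 48) || decide (k = 44)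

theorem blk_tabs : blkChk negL X1 = true ∧ blkChk negL X2 = true ∧ blkChk posL X3 = true ∧
    blkChk posL X4 = true ∧ blkChk posL Sp = true := by decide +kernel

end CfsgLib.ThompsonF42
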