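import Cfsg.Agent.Lib.KnownB.ThompsonF42.Move
import Cfsg.Agent.Lib.KnownB.Thompson.Cover
import Cfsg.Agent.Lib.Chev.RegularTorus

/-!
For `q ≥ 32` a regular element of the split torus squares onto the non identity elements.
-/

set_option autoImplicit false
set_option maxRecDepth 100000

namespace CfsgLib.ThompsonF42

open Cfsg.Lie Matrix CfsgLib.Chev CfsgLib.Thompson
open CfsgLib.Chev.F42 (ix)

variable {K : Type*} [Field K] [CharP K 2] {σ : K →+* K}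

local notation "g₄" => stdF4.good
local notation "G₄" => GL chevF4.Idx K

/-- the conclusion for one element -/
def Done (σ : K →+* K) (x y : G₄) : Prop :=
  ∃ a ∈ (F42.tw σ).fix, ∃ b ∈ (F42.tw σ).fix, y = (a * x * a⁻¹) * (b * x * b⁻¹)

omit [CharP K 2] in
theorem chi_inv (c : Fin chevF4.rank → Kˣ) (r : ℕ) :
    chi chevF4 auxF4 c⁻¹ r = (chi chevF4 auxF4 c r)⁻¹ := by
  rw [eq_inv_iff_mul_eq_one, ← chi_mul, inv_mul_cancel, chi_one]

theorem fpf_regular {c : Fin chevF4.rank → Kˣ} (hc : c ∈ (F42.tw σ).thetaFix)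
    (hreg : ∀ r < chevF4.nroots, chi chevF4 auxF4 c r ≠ 1) :
    Fpf (LT σ) (tor chevF4 auxF4 c) ∧ Fpf (UT σ) (tor chevF4 auxF4 c) := by
  constructor
  · refine ⟨fun r hr => tor_conj_LT hc hr, fun r hr e => ?_⟩
    have e' : tor chevF4 auxF4 c * r * (tor chevF4 auxF4 c)⁻¹ = r := by rw [e, mul_inv_cancel_right]
    have h : wz σ * r * (wz σ)⁻¹ = 1 := by
      refine pos_fixed_eq_one stdF4 c⁻¹ (fun s hs h => hreg s hs ?_) (wz_conj_neg hr).1 ?_
      · rwa [chi_inv, inv_eq_one] at h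
      · rw [map_inv, ← wz_conj_tor (σ := σ)]
        conv_rhs => rw [← e']
        group
    exact conj_eq_one_iff.1 h
  · refine ⟨fun r hr => tor_conj_UT hc hr, fun r hr e => ?_⟩
    have e' : tor chevF4 auxF4 c * r * (tor chevF4 auxF4 c)⁻¹ = r := by rw [e, mul_inv_cancel_right]
    exact pos_fixed_eq_one stdF4 c hreg hr.1 e'

variable [Fintype K]

/-- covering by a regular torus element -/
theorem done_regular (hi : F42.Inv2 σ) (h8 : 8 ≤ Fintype.card K)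
    {c : Fin chevF4.rank → Kˣ} (hc : c ∈ (F42.tw σ).thetaFix)
    (hreg : ∀ r < chevF4.nroots, chi chevF4 auxF4 c r ≠ 1) {y : G₄} (hy : y ∈ (F42.tw σ).fix) :
    Done σ (tor chevF4 auxF4 c) y := by
  have : Finite G₄ := finite_GL
  obtain ⟨x, hx, v, hv, w, hw, e⟩ := exists_vw hi h8 hy
  obtain ⟨fl, fu⟩ := fpf_regular hc hreg
  refine cover_two (X := (F42.tw σ).fix) (Rn := LT σ) (Rp := UT σ) inf_le_right inf_le_right
    fl fu.inv ⟨1, one_mem _, by group⟩ ⟨wz σ, wz_fix, wz_conj_tor c⟩ hv hw ⟨x, hx, ?_⟩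
  rw [e, mul_inv_cancel, mul_one]

/-- exponents of the two parameters in the characters -/
theorem exp_tab : ∀ r : Fin 48,
    (2 * auxF4.cart 0 r.val + auxF4.cart 1 r.val).natAbs ≤ 6 ∧
    (auxF4.cart 2 r.val + 2 * auxF4.cart 3 r.val).natAbs ≤ 6 ∧
    (2 * auxF4.cart 0 r.val + auxF4.cart 1 r.val = 0 →
      auxF4.cart 2 r.val + 2 * auxF4.cart 3 r.val ≠ 0) ∧
    4 * (2 * auxF4.cart 0 r.val + auxF4.cart 1 r.val) +
      (auxF4.cart 2 r.val + 2 * auxF4.cart 3 r.val) ≠ 0 := by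
  decide +kernel

theorem not_dvd_small {e a b : ℤ} (he : e = 4 ∨ 8 ≤ e) (ha : a.natAbs ≤ 6) (hb : b.natAbs ≤ 6)
    (h0 : a = 0 → b ≠ 0) (h4 : 4 * a + b ≠ 0) : ¬ (2 * e ^ 2 - 1) ∣ e * a + b := by
  intro hd
  have a0 : |a| ≤ 6 := by rw [Int.abs_eq_natAbs]; exact_mod_cast ha
  have b0 : |b| ≤ 6 := by rw [Int.abs_eq_natAbs]; exact_mod_cast hb
  have hb2 : |e * a + b| < 2 * e ^ 2 - 1 := by
    have := abs_add_le (e * a) b
    have h2 : |e * a| ≤ e * 6 := by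
      rw [abs_mul, abs_of_nonneg (show (0 : ℤ) ≤ e by rcases he with rfl | he <;> omega)]
      exact mul_le_mul_of_nonneg_left a0 (by rcases he with rfl | he <;> omega)
    rcases he with rfl | he
    · norm_num at *; omega
    · nlinarith
  have hz := Int.eq_zero_of_abs_lt_dvd hd hb2
  rcases he with rfl | he
  · exact h4 hz
  · rcases eq_or_ne a 0 with rfl | hne
    · exact h0 rfl (by simpa using hz)
    · have h1 : 1 ≤ |a| := abs_pos.2 hne
      have h3 : e * 1 ≤ |e * a| := by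
        rw [abs_mul, abs_of_nonneg (show (0 : ℤ) ≤ e by omega)]
        exact mul_le_mul_of_nonneg_left h1 (by omega)
      rw [show e * a = -b by linarith, abs_neg] at h3
      omega

/-- a regular torus element for `q ≥ 32` -/
theorem exists_regular {m : ℕ} (hm : 2 ≤ m) (hK : Fintype.card K = 2 ^ (2 * m + 1))
    (hσ : ∀ x, σ x = x ^ (2 ^ m)) (hi : F42.Inv2 σ) :
    ∃ c ∈ (F42.tw σ).thetaFix, ∀ r < chevF4.nroots, chi chevF4 auxF4 c r ≠ 1 := by
  obtain ⟨g, hg⟩ := IsCyclic.exists_ofOrder_eq_natCard (α := Kˣ)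
  rw [Nat.card_units, Nat.card_eq_fintype_card, hK] at hg
  set e := 2 ^ m with he
  let c : Fin chevF4.rank → Kˣ := (![g ^ (2 * e), g ^ e, g, g ^ 2] : Fin 4 → Kˣ)
  have hc0 : c (ix 0) = g ^ (2 * e) := rfl
  have hc1 : c (ix 1) = g ^ e := rfl
  have hc2 : c (ix 2) = g := rfl
  have hc3 : c (ix 3) = g ^ 2 := rfl
  refine ⟨c, (F42.thetaFix_iff hi c).2 ⟨?_, ?_⟩, fun r hr hone => ?_⟩
  · rw [hc3, hc0, hσ, ← Units.val_pow_eq_pow_val, ← pow_mul]
  · rw [hc2, hc1, hσ, ← Units.val_pow_eq_pow_val]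
  have hr' : r < 48 := nroots_eq ▸ hr
  have hchi : chi chevF4 auxF4 c r = g ^ ((e : ℤ) * (2 * auxF4.cart 0 r + auxF4.cart 1 r) +
      (auxF4.cart 2 r + 2 * auxF4.cart 3 r)) := by
    show ∏ i : Fin 4, c (ix i) ^ auxF4.cart i.val r = _
    rw [Fin.prod_univ_four, hc0, hc1, hc2, hc3]
    simp only [← zpow_natCast, ← _root_.zpow_mul, ← _root_.zpow_add, Fin.val_zero, Fin.val_one, Fin.val_two,
      show ((3 : Fin 4) : ℕ) = 3 from rfl]
    congr 1
    push_cast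
    ring
  rw [hchi, ← orderOf_dvd_iff_zpow_eq_one, hg] at hone
  obtain ⟨ha, hb, h0, h4⟩ := exp_tab ⟨r, hr'⟩
  refine not_dvd_small ?_ ha hb h0 h4 (Eq.subst (motive := fun z => z ∣ _) ?_ hone)
  · rcases eq_or_lt_of_le hm with rfl | h3
    · exact Or.inl (by norm_num [he])
    · right
      have : 2 ^ 3 ≤ 2 ^ m := Nat.pow_le_pow_right (by norm_num) h3
      rw [he]; exact_mod_cast this
  · have h1 : 1 ≤ 2 ^ (2 * m + 1) := Nat.one_le_two_pow
    rw [Nat.cast_sub h1, he]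
    push_cast
    ring

omit [CharP K 2] [Fintype K] in
theorem odd_order {x : G₄} {n : ℕ} (hn : Odd n) (hx : x ^ n = 1) : Odd (orderOf x) :=
  hn.of_dvd_nat (orderOf_dvd_of_pow_eq_one hx)

/-- the statement for one choice of element -/
theorem finish {m : ℕ} (hσ : ∀ x, σ x = x ^ (2 ^ m)) (hi : F42.Inv2 σ)
    {x : G₄} (hx : x ∈ (F42.tw σ).fix) {n : ℕ} (hn : Odd n) (hxn : x ^ n = 1)
    (hcov : ∀ y ∈ (F42.tw σ).fix, y ≠ 1 → Done σ x y) :
    ∃ x : twistedF4 K (2 ^ m), Odd (orderOf x) ∧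
      ∀ g : twistedF4 K (2 ^ m), g ≠ 1 →
        ∃ u v : twistedF4 K (2 ^ m), g = (u * x * u⁻¹) * (v * x * v⁻¹) := by
  have e := F42.twisted_eq_fix hσ hi
  refine ⟨⟨x, e ▸ hx⟩, ?_, fun g hg => ?_⟩
  · rw [← Subgroup.orderOf_coe]; exact odd_order hn hxn
  · obtain ⟨a, ha, b, hb, h⟩ := hcov g (e ▸ g.2) fun h => hg (Subtype.ext h)
    exact ⟨⟨a, e ▸ ha⟩, ⟨b, e ▸ hb⟩, Subtype.ext h⟩

theorem odd_pred {m : ℕ} : Odd (2 ^ (2 * m + 1) - 1) := by
  rw [pow_succ']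
  have h1 : 1 ≤ 2 ^ (2 * m) := Nat.one_le_two_pow
  exact ⟨2 ^ (2 * m) - 1, by omega⟩

omit [CharP K 2] in
theorem tor_pow_card (c : Fin chevF4.rank → Kˣ) :
    (tor chevF4 auxF4 c : G₄) ^ (Fintype.card K - 1) = 1 := by
  classical
  rw [← map_pow]
  have h1 : c ^ (Fintype.card K - 1) = 1 := by
    funext i
    rw [Pi.pow_apply, ← Fintype.card_units]
    exact pow_card_eq_one
  rw [h1, map_one]

/-- `q ≥ 32` -/
theorem cover_large {m : ℕ} (hm : 2 ≤ m) (hK : Fintype.card K = 2 ^ (2 * m + 1))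
    (hσ : ∀ x, σ x = x ^ (2 ^ m)) (hi : F42.Inv2 σ) :
    ∃ x : twistedF4 K (2 ^ m), Odd (orderOf x) ∧
      ∀ g : twistedF4 K (2 ^ m), g ≠ 1 →
        ∃ u v : twistedF4 K (2 ^ m), g = (u * x * u⁻¹) * (v * x * v⁻¹) := by
  obtain ⟨c, hc, hreg⟩ := exists_regular hm hK hσ hi
  have h8 : 8 ≤ Fintype.card K := by
    rw [hK]
    exact le_trans (by norm_num) (Nat.pow_le_pow_right (by norm_num) (show 3 ≤ 2 * m + 1 by omega))
  exact finish hσ hi (tor_fix hc) odd_pred (hK ▸ tor_pow_card c)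
    fun y hy _ => done_regular hi h8 hc hreg hy

end CfsgLib.ThompsonF42
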