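import Cfsg.Agent.Lib.KnownB.ThompsonF42.Entry

/-!
The corner entry and the leading minor of a product of a lower unipotent, a diagonal and a further element.
-/

set_option autoImplicit false
set_option maxRecDepth 100000

namespace CfsgLib.ThompsonF42

open Cfsg.Lie Matrix CfsgLib.Chev

variable {K : Type*} [Field K] [CharP K 2]

local notation "g₄" => stdF4.good
local notation "G₄" => GL chevF4.Idx K

omit [CharP K 2] in
theorem tri_neg {v : G₄} (hv : v ∈ chevF4.negUnipotent K) (x : chevF4.Idx) : v.val x x = 1 := by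
  have h : chevF4.negUnipotent K ≤ triG (fun y => (-1 : ℤ) * wgt chevF4 auxF4 y) 0 le_rfl := by
    rw [negUnipotent_eq g₄]
    refine UP_le fun r t hr => xG_mem_triG g₄ hr.1 t (Or.inr rfl) le_rfl ?_
    have := (negRoot_iff_code stdF4 hr.1).1 hr
    linarith
  rw [(h hv).1 x x (by simp), if_pos rfl]

omit [CharP K 2] in
theorem tri_pos {v : G₄} (hv : v ∈ chevF4.posUnipotent K) (x : chevF4.Idx) : v.val x x = 1 := by
  have h : chevF4.posUnipotent K ≤ triG (fun y => (1 : ℤ) * wgt chevF4 auxF4 y) 0 le_rfl := by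
    rw [posUnipotent_eq g₄]
    refine UP_le fun r t hr => xG_mem_triG g₄ hr.1 t (Or.inl rfl) le_rfl ?_
    have := (pos_iff_code stdF4 hr.1).1 hr
    linarith
  rw [(h hv).1 x x (by simp), if_pos rfl]

theorem pos_blk {u : G₄} (hu : u ∈ chevF4.posUnipotent K) {X : CS} (h : blkChk posL X = true) :
    Blk X u.val := (pos_le (fun r hr t => xG_blk h hr t) hu).1

theorem neg_blk {v : G₄} (hv : v ∈ chevF4.negUnipotent K) {X : CS} (h : blkChk negL X = true) :
    Blk X v.val := (neg_le (fun r hr t => xG_blk h hr t) hv).1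

/-- a vector supported on positive short roots -/
def InSp (f : chevF4.Idx → K) : Prop := ∀ z, Sp (idx chevF4 z) = false → f z = 0

theorem Sp_X : ∀ k : Fin 52, Sp k.val = true →
    (k.val ≠ 48 → X1 k.val = true ∧ (k.val ≠ 44 → X2 k.val = true)) := by decide +kernel

theorem X_p : X1 48 = false ∧ X2 44 = false ∧ X1 44 = true ∧ Sp 48 = true ∧ Sp 44 = true ∧
    X3 44 = false ∧ X4 48 = true ∧ X4 44 = true ∧ X3 48 = true := by decide +kernel

theorem idx_p1 : idx chevF4 p1 = 48 := idx_rc 44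
theorem idx_p2 : idx chevF4 p2 = 44 := idx_rc 40

/-- the rows of a lower unipotent element on the short coordinates -/
theorem neg_rows {v : G₄} (hv : v ∈ chevF4.negUnipotent K) :
    (∀ z, Sp (idx chevF4 z) = true → z ≠ p1 → v.val p1 z = 0) ∧
    (∀ z, Sp (idx chevF4 z) = true → z ≠ p1 → z ≠ p2 → v.val p2 z = 0) := by
  constructor
  · intro z hz h1
    have h48 : idx chevF4 z ≠ 48 := fun e => h1 (idx_inj (e.trans idx_p1.symm))
    exact neg_blk hv blk_tabs.1 p1 z ((Sp_X ⟨_, idx_lt52 z⟩ hz h48).1) (by rw [idx_p1]; exact X_p.1)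
  · intro z hz h1 h2
    have h48 : idx chevF4 z ≠ 48 := fun e => h1 (idx_inj (e.trans idx_p1.symm))
    have h44 : idx chevF4 z ≠ 44 := fun e => h2 (idx_inj (e.trans idx_p2.symm))
    exact neg_blk hv blk_tabs.2.1 p2 z ((Sp_X ⟨_, idx_lt52 z⟩ hz h48).2 h44)
      (by rw [idx_p2]; exact X_p.2.1)

theorem chi_p (c : Fin chevF4.rank → Kˣ) :
    chi chevF4 auxF4 c 44 = c (F42.ix 0) ∧
      chi chevF4 auxF4 c 40 = c (F42.ix 1) * (c (F42.ix 0))⁻¹ := by
  have key : ∀ r, chi chevF4 auxF4 c r = ∏ i : Fin 4, c (F42.ix i) ^ auxF4.cart i.val r := fun r => rfl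
  have tab : ∀ i : Fin 4, auxF4.cart i.val 44 = [1, 0, 0, 0].getD i.val 0 ∧
      auxF4.cart i.val 40 = [-1, 1, 0, 0].getD i.val 0 := by decide +kernel
  constructor
  · simp [key, Fin.prod_univ_four, (tab _).1]
  · simp [key, Fin.prod_univ_four, (tab _).2, mul_comm]

/-- the corner entry and the minor of `v * t * M` -/
theorem corner {v : G₄} (hv : v ∈ chevF4.negUnipotent K) (c : Fin chevF4.rank → Kˣ) {M : G₄}
    (h1 : InSp fun z => M.val z p1) (h2 : InSp fun z => M.val z p2) :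
    (v * tor chevF4 auxF4 c * M).val p1 p1 = (c (F42.ix 0) : K) * M.val p1 p1 ∧
      mn (v * tor chevF4 auxF4 c * M).val = (c (F42.ix 1) : K) * mn M.val := by
  have hd : (tor chevF4 auxF4 c : G₄).val = dia chevF4 fun s => (chi chevF4 auxF4 c s : K) := tor_val c
  obtain ⟨hr1, hr2⟩ := neg_rows hv
  obtain ⟨e44, e40⟩ := chi_p c
  have hvd : ∀ x z, (v * tor chevF4 auxF4 c).val x z =
      v.val x z * Sum.elim (fun _ => (1 : K)) (fun s => (chi chevF4 auxF4 c s.val : K)) z := by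
    intro x z
    rw [Units.val_mul, hd, dia, Matrix.mul_diagonal]
  have d1 : Sum.elim (fun _ => (1 : K)) (fun s : Fin chevF4.nroots => (chi chevF4 auxF4 c s.val : K)) p1
      = c (F42.ix 0) := congrArg Units.val e44
  have d2 : Sum.elim (fun _ => (1 : K)) (fun s : Fin chevF4.nroots => (chi chevF4 auxF4 c s.val : K)) p2
      = c (F42.ix 1) * (c (F42.ix 0) : K)⁻¹ := by
    refine (congrArg Units.val e40).trans ?_
    rw [Units.val_mul, Units.val_inv_eq_inv_val]
  have z12 : v.val p1 p2 = 0 := hr1 p2 (by rw [idx_p2]; exact X_p.2.2.2.2.1) p1_ne_p2.symm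
  have row1 : ∀ j, (InSp fun z => M.val z j) →
      (v * tor chevF4 auxF4 c * M).val p1 j = (c (F42.ix 0) : K) * M.val p1 j := by
    intro j hj
    rw [Units.val_mul, Matrix.mul_apply, Finset.sum_eq_single p1]
    · rw [hvd, tri_neg hv, one_mul, d1]
    · intro z _ hz
      cases hs : Sp (idx chevF4 z)
      · rw [show M.val z j = 0 from hj z hs, mul_zero]
      · rw [hvd, hr1 z hs hz, zero_mul, zero_mul]
    · simp
  have row2 : ∀ j, (InSp fun z => M.val z j) → (v * tor chevF4 auxF4 c * M).val p2 j =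
      v.val p2 p1 * (c (F42.ix 0) : K) * M.val p1 j +
        (c (F42.ix 1) : K) * (c (F42.ix 0) : K)⁻¹ * M.val p2 j := by
    intro j hj
    rw [Units.val_mul, Matrix.mul_apply, Fintype.sum_eq_add p1 p2 p1_ne_p2]
    · rw [hvd, hvd, tri_neg hv, one_mul, d1, d2]
    · rintro z ⟨hz1, hz2⟩
      cases hs : Sp (idx chevF4 z)
      · rw [show M.val z j = 0 from hj z hs, mul_zero]
      · rw [hvd, hr2 z hs hz1 hz2, zero_mul, zero_mul]
  refine ⟨row1 _ h1, ?_⟩
  rw [mn, mn, row1 _ h1, row1 _ h2, row2 _ h1, row2 _ h2]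
  have := (c (F42.ix 0)).ne_zero
  field_simp
  ring

theorem pos_cols {w : G₄} (hw : w ∈ chevF4.posUnipotent K) :
    InSp (fun z => w.val z p1) ∧ InSp (fun z => w.val z p2) ∧
      w.val p1 p1 = 1 ∧ mn w.val = 1 := by
  have hS := pos_blk hw blk_tabs.2.2.2.2
  have h21 : w.val p2 p1 = 0 := pos_blk hw blk_tabs.2.2.1 p2 p1
    (by rw [idx_p1]; exact X_p.2.2.2.2.2.2.2.2) (by rw [idx_p2]; exact X_p.2.2.2.2.2.1)
  refine ⟨fun z hz => hS z p1 (by rw [idx_p1]; exact X_p.2.2.2.1) hz,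
    fun z hz => hS z p2 (by rw [idx_p2]; exact X_p.2.2.2.2.1) hz, tri_pos hw _, ?_⟩
  rw [mn, tri_pos hw, tri_pos hw, h21, mul_zero, sub_zero, one_mul]

/-- coordinates of a product in the big cell -/
theorem corner_cell {v : G₄} (hv : v ∈ chevF4.negUnipotent K) (c : Fin chevF4.rank → Kˣ) {w : G₄}
    (hw : w ∈ chevF4.posUnipotent K) :
    (v * tor chevF4 auxF4 c * w).val p1 p1 = (c (F42.ix 0) : K) ∧
      mn (v * tor chevF4 auxF4 c * w).val = (c (F42.ix 1) : K) := by
  obtain ⟨a, b, e1, e2⟩ := pos_cols hw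
  obtain ⟨r1, r2⟩ := corner hv c a b
  rw [r1, r2, e1, e2, mul_one, mul_one]
  exact ⟨rfl, rfl⟩

end CfsgLib.ThompsonF42
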