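import Cfsg.Agent.Lib.KnownB.ThompsonF42.Orbit

/-!
Every element of twisted `F₄` is conjugate to a product of a lower and an upper unipotent element.
-/

set_option autoImplicit false
set_option maxRecDepth 100000

namespace CfsgLib.ThompsonF42

open Cfsg.Lie Matrix CfsgLib.Chev CfsgLib.Chev.OrdList
open CfsgLib.Chev.F42 (xx W quad ix)

variable {K : Type*} [Field K] [CharP K 2] [Fintype K] {σ : K →+* K}

local notation "g₄" => stdF4.good
local notation "G₄" => GL chevF4.Idx K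

omit [Fintype K] in
theorem colE (M : Matrix chevF4.Idx chevF4.Idx K) (s : Fin 48) (x : chevF4.Idx) :
    (M *ᵥ E (K := K) s.val) x = M x (rc s) := by
  rw [E, ← idx_rc, mulVec_ev]

theorem four_tab : ∀ j : Fin 2, ∀ s : Fin 48, s.val ∈ (if j = 0 then [44, 40] else [40, 39, 38, 36]) →
    ∀ p : Fin 48, p.val ∈ (if j = 0 then [44, 40] else [40, 39, 38, 36]) →
      lN j (4 + p.val) = lN j (4 + s.val) ∧ Sp (4 + s.val) = true := by decide +kernel

omit [Fintype K] in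
/-- a complement element does not see the orbit coordinates -/
theorem RP_four (j : Fin 2) {r : G₄} (hr : r ∈ RP K j) {s p : Fin 48}
    (hs : s.val ∈ (if j = 0 then [44, 40] else [40, 39, 38, 36]))
    (hp : p.val ∈ (if j = 0 then [44, 40] else [40, 39, 38, 36])) :
    (r.val *ᵥ E (K := K) s.val) (rc p) = if p = s then 1 else 0 := by
  rw [colE, RP_tri j hr (rc p) (rc s) (by rw [idx_rc, idx_rc, (four_tab j s hs p hp).1])]
  have : rc p = rc s ↔ p = s := ⟨fun e => by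
    have := congrArg (idx chevF4) e; rw [idx_rc, idx_rc] at this; exact Fin.ext (by omega), fun e => by rw [e]⟩
  simp only [this]

omit [Fintype K] in
theorem RP_InSp (j : Fin 2) {r : G₄} (hr : r ∈ RP K j) {s : Fin 48}
    (hs : s.val ∈ (if j = 0 then [44, 40] else [40, 39, 38, 36])) :
    InSp (r.val *ᵥ E (K := K) s.val) := by
  intro z hz
  rw [colE]
  exact pos_blk (RP_le j hr) blk_tabs.2.2.2.2 z (rc s) (by rw [idx_rc]; exact (four_tab j s hs s hs).2) hz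

/-- the shape needed for a move -/
def Rep (σ : K →+* K) (j : Fin 2) (y : G₄) (c : Fin chevF4.rank → Kˣ) : Prop :=
  ∃ x ∈ (F42.tw σ).fix, ∃ v ∈ LT σ, ∃ r ∈ RP K j, ∃ k ∈ (F42.tw σ).V (foldF42.w j.val),
    k ≠ 1 ∧ x * y * x⁻¹ = v * tor chevF4 auxF4 c * (r * k) ∧ r * k ∈ UT σ

omit [Fintype K] in
theorem inv2_sq (hi : F42.Inv2 σ) (X : K) : σ (σ X ^ 2) = X := by rw [map_pow]; exact hi X

/-- the move in the orbit of type `A1 × A1` -/
theorem Rep.step0 (hi : F42.Inv2 σ) {y : G₄} (hy : y ∈ (F42.tw σ).fix) {c : Fin chevF4.rank → Kˣ}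
    (hc : c ∈ (F42.tw σ).thetaFix) (h : Rep σ 0 y c) :
    ∃ d ∈ (F42.tw σ).thetaFix, d (ix 0) = 1 ∧ d (ix 1) = c (ix 1) ∧ St σ y d := by
  obtain ⟨x, hx, v, hv, r, hr, k0, hk0, hne, e, hw⟩ := h
  obtain ⟨t, rfl⟩ := ((F42.class0 hi).2 k0).1 hk0
  have ht : σ t ≠ 0 := by
    intro h0
    refine hne ?_
    rw [h0, σ.injective (h0.trans (map_zero σ).symm)]
    simp [xx, xG_zero]
  set z : K := Units.val ((c (ix 0))⁻¹) with hz
  set A : K := (z - 1) / σ t with hA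
  set s : K := σ A ^ 2 with hs
  have hσs : σ s = A := inv2_sq hi A
  set k : G₄ := (F42.tw σ).nJ 0 * (xx 33 (σ s) * xx 24 s) * ((F42.tw σ).nJ 0)⁻¹ with hk
  have hn : (F42.tw σ).nJ 0 ∈ (F42.tw σ).fix := (F42.tw σ).nJ_fix (by decide)
  have hkf : k ∈ (F42.tw σ).fix := mul_mem (mul_mem hn (F42.pair_fix hi s)) (inv_mem hn)
  have hk' : k = xx 14 (σ s) * xx 23 s := F42.neg_pair _ _
  have hkN : k ∈ chevF4.negUnipotent K := by
    rw [hk', negUnipotent_eq g₄]
    exact mul_mem (xG_mem_UP g₄ (by decide +kernel) _) (xG_mem_UP g₄ (by decide +kernel) _)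
  set w := r * (xx 33 (σ t) * xx 24 t) with hwd
  set g := k⁻¹ * (x * y * x⁻¹) * k with hg
  have hgf : g ∈ (F42.tw σ).fix :=
    mul_mem (mul_mem (inv_mem hkf) (mul_mem (mul_mem hx hy) (inv_mem hx))) hkf
  have eg : g = k⁻¹ * v * tor chevF4 auxF4 c * (w * k) := by rw [hg, e]; group
  obtain ⟨n44, n40⟩ := npair_vec (K := K) (σ s) s
  obtain ⟨u44, u40⟩ := pair_vec (K := K) (σ t) t
  have c1 : (w * k).val *ᵥ E (K := K) 44 =
      (1 + σ t * A) • (r.val *ᵥ E (K := K) 44) + A • (r.val *ᵥ E (K := K) 40) := by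
    rw [hwd, hk', Units.val_mul (r * _), Units.val_mul r, ← mulVec_mulVec, ← mulVec_mulVec, n44, hσs]
    simp only [mulVec_add, mulVec_smul, u44, u40]
    module
  have c2 : (w * k).val *ᵥ E (K := K) 40 =
      r.val *ᵥ E (K := K) 40 + σ t • (r.val *ᵥ E (K := K) 44) := by
    rw [hwd, hk', Units.val_mul (r * _), Units.val_mul r, ← mulVec_mulVec, ← mulVec_mulVec, n40]
    simp only [mulVec_add, mulVec_smul, u40]
  have m1 : ((fun z => (w * k).val z p1) : chevF4.Idx → K) = (w * k).val *ᵥ E (K := K) 44 :=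
    funext fun z => (colE _ 44 z).symm
  have m2 : ((fun z => (w * k).val z p2) : chevF4.Idx → K) = (w * k).val *ᵥ E (K := K) 40 :=
    funext fun z => (colE _ 40 z).symm
  have s44 : InSp (r.val *ᵥ E (K := K) 44) := RP_InSp 0 hr (s := 44) (by decide)
  have s40 : InSp (r.val *ᵥ E (K := K) 40) := RP_InSp 0 hr (s := 40) (by decide)
  obtain ⟨g1, g2⟩ := corner (M := w * k)
    (mul_mem (inv_mem hkN) hv.1 : k⁻¹ * v ∈ chevF4.negUnipotent K) c
    (by rw [m1, c1]; intro z hz; simp [s44 z hz, s40 z hz])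
    (by rw [m2, c2]; intro z hz; simp [s44 z hz, s40 z hz])
  have v44 : (r.val *ᵥ E (K := K) 44) p1 = 1 :=
    (RP_four 0 hr (s := 44) (p := 44) (by decide) (by decide)).trans (if_pos rfl)
  have v40 : (r.val *ᵥ E (K := K) 40) p1 = 0 :=
    (RP_four 0 hr (s := 40) (p := 44) (by decide) (by decide)).trans (if_neg (by decide))
  have w44 : (r.val *ᵥ E (K := K) 44) p2 = 0 :=
    (RP_four 0 hr (s := 44) (p := 40) (by decide) (by decide)).trans (if_neg (by decide))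
  have w40 : (r.val *ᵥ E (K := K) 40) p2 = 1 :=
    (RP_four 0 hr (s := 40) (p := 40) (by decide) (by decide)).trans (if_pos rfl)
  have e11 : (w * k).val p1 p1 = z := by
    have := congrFun (m1.trans c1) p1
    simp only [Pi.add_apply, Pi.smul_apply, smul_eq_mul, v44, v40] at this
    rw [this, hA]; field_simp; ring
  have emn : mn (w * k).val = 1 := by
    have a11 := congrFun (m1.trans c1) p1
    have a21 := congrFun (m1.trans c1) p2
    have a12 := congrFun (m2.trans c2) p1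
    have a22 := congrFun (m2.trans c2) p2
    simp only [Pi.add_apply, Pi.smul_apply, smul_eq_mul, v44, v40, w44, w40] at a11 a21 a12 a22
    rw [mn, a11, a21, a12, a22]
    ring
  rw [← eg, e11, hz, Units.mul_inv] at g1
  rw [← eg, emn, mul_one] at g2
  obtain ⟨d, hd, d0, d1, v', hv', w', hw', e'⟩ := cell_of_corner hgf (by rw [g1]; exact one_ne_zero)
    (by rw [g2]; exact Units.ne_zero _)
  refine ⟨d, hd, Units.ext (by rw [d0, g1, Units.val_one]), Units.ext (by rw [d1, g2]),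
    k⁻¹ * x, mul_mem (inv_mem hkf) hx, v', hv', w', hw', ?_⟩
  rw [← e', hg]; group

/-- the move in the orbit of type `B2` -/
theorem Rep.step1 (hi : F42.Inv2 σ) {y : G₄} (hy : y ∈ (F42.tw σ).fix) {c : Fin chevF4.rank → Kˣ}
    (hc : c ∈ (F42.tw σ).thetaFix) (h : Rep σ 1 y c) :
    ∃ d ∈ (F42.tw σ).thetaFix, d (ix 0) = c (ix 0) ∧ d (ix 1) = 1 ∧ St σ y d := by
  obtain ⟨x, hx, v, hv, r, hr, k0, hk0, hne, e, hw⟩ := h
  obtain ⟨t, u, rfl⟩ := ((F42.class1 hi).2 k0).1 hk0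
  have h2 : (2 : K) = 0 := CharTwo.two_eq_zero
  set z : K := Units.val ((c (ix 1))⁻¹) with hz
  set F : K := σ u ^ 2 + σ t * (σ t * t + u) with hF
  obtain ⟨s, v0, hsv⟩ : ∃ s v0 : K,
      1 + σ t * σ s + u * (σ s * s + v0) + F * (σ v0 ^ 2 + σ s * (σ s * s + v0)) = z := by
    by_cases hF0 : F = 0
    · have hu : u ≠ 0 := by
        intro hu
        refine hne ?_
        have h0 : σ t * (σ t * t) = 0 := by
          rw [hF, hu] at hF0; simpa using hF0
        have ht : t = 0 := by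
          rcases mul_eq_zero.1 h0 with h | h
          · exact σ.injective (h.trans (map_zero σ).symm)
          · rcases mul_eq_zero.1 h with h | h
            · exact σ.injective (h.trans (map_zero σ).symm)
            · exact h
        subst hu ht
        simp [quad, F42.W, xx, xG_zero]
      refine ⟨0, (z - 1) / u, ?_⟩
      rw [hF0, map_zero]
      field_simp
      ring
    · obtain ⟨X, hX⟩ : ∃ X, F * X = u := ⟨u / F, mul_div_cancel₀ _ hF0⟩
      obtain ⟨D, hD⟩ : ∃ D, F * D = z - 1 - σ t * X := ⟨_, mul_div_cancel₀ _ hF0⟩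
      refine ⟨σ X ^ 2, σ D, ?_⟩
      rw [inv2_sq hi X, show σ (σ D) ^ 2 = D from hi D]
      linear_combination hD + (X * σ X ^ 2 + σ D) * hX + u * (X * σ X ^ 2 + σ D) * h2
  set q := quad σ s v0 with hq
  set k : G₄ := (F42.tw σ).nJ 1 * W q * ((F42.tw σ).nJ 1)⁻¹ with hk
  have hn : (F42.tw σ).nJ 1 ∈ (F42.tw σ).fix := (F42.tw σ).nJ_fix (by decide)
  have hkf : k ∈ (F42.tw σ).fix := mul_mem (mul_mem hn (F42.W_quad_fix hi s v0)) (inv_mem hn)
  have hk' : k = xx 20 q.1 * xx 22 q.2.1 * xx 19 q.2.2.1 * xx 17 q.2.2.2 := F42.neg_W _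
  have hkN : k ∈ chevF4.negUnipotent K := by
    rw [hk', negUnipotent_eq g₄]
    exact mul_mem (mul_mem (mul_mem (xG_mem_UP g₄ (by decide +kernel) _)
      (xG_mem_UP g₄ (by decide +kernel) _)) (xG_mem_UP g₄ (by decide +kernel) _))
      (xG_mem_UP g₄ (by decide +kernel) _)
  set w := r * W (quad σ t u) with hwd
  set g := k⁻¹ * (x * y * x⁻¹) * k with hg
  have hgf : g ∈ (F42.tw σ).fix :=
    mul_mem (mul_mem (inv_mem hkf) (mul_mem (mul_mem hx hy) (inv_mem hx))) hkf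
  have eg : g = k⁻¹ * v * tor chevF4 auxF4 c * (w * k) := by rw [hg, e]; group
  obtain ⟨n44, n40⟩ := nW_vec (K := K) q.1 q.2.1 q.2.2.1 q.2.2.2
  have c2 := congrArg (r.val *ᵥ ·)
    (W_vec (K := K) (σ t) t (σ t * t + u) (σ u ^ 2) q.1 q.2.2.1 (q.2.2.2 + q.1 * q.2.2.1))
  simp only [mulVec_add, mulVec_smul] at c2
  have m2 : ((fun z => (w * k).val z p2) : chevF4.Idx → K) = r.val *ᵥ ((W (quad σ t u)).val *ᵥ
      (E (K := K) 40 + q.1 • E 39 + q.2.2.1 • E 38 + (q.2.2.2 + q.1 * q.2.2.1) • E 36)) := by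
    refine (funext fun z => (colE _ 40 z).symm).trans ?_
    rw [hwd, hk', Units.val_mul (r * _), Units.val_mul r, ← mulVec_mulVec, ← mulVec_mulVec]
    exact congrArg (fun f => r.val *ᵥ ((W (quad σ t u)).val *ᵥ f)) n40
  simp only [mulVec_add, mulVec_smul] at m2
  rw [show W (quad σ t u) = W (σ t, t, σ t * t + u, σ u ^ 2) from rfl] at m2
  replace m2 := m2.trans c2
  have m1 : ((fun z => (w * k).val z p1) : chevF4.Idx → K) = fun z => w.val z p1 := by
    refine funext fun z => ((colE _ 44 z).symm.trans ?_)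
    rw [Units.val_mul, ← mulVec_mulVec, hk']
    exact (congrFun (congrArg (w.val *ᵥ ·) n44) z).trans (colE _ 44 z)
  obtain ⟨w1, -, w11, -⟩ := pos_cols hw.1
  have s0 : InSp (r.val *ᵥ E (K := K) 40) := RP_InSp 1 hr (s := 40) (by decide)
  have s1 : InSp (r.val *ᵥ E (K := K) 39) := RP_InSp 1 hr (s := 39) (by decide)
  have s2 : InSp (r.val *ᵥ E (K := K) 38) := RP_InSp 1 hr (s := 38) (by decide)
  have s3 : InSp (r.val *ᵥ E (K := K) 36) := RP_InSp 1 hr (s := 36) (by decide)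
  obtain ⟨g1, g2⟩ := corner (M := w * k)
    (mul_mem (inv_mem hkN) hv.1 : k⁻¹ * v ∈ chevF4.negUnipotent K) c
    (by rw [m1]; exact w1)
    (by rw [m2]; intro z hz; simp [s0 z hz, s1 z hz, s2 z hz, s3 z hz])
  have v0' : (r.val *ᵥ E (K := K) 40) p2 = 1 :=
    (RP_four 1 hr (s := 40) (p := 40) (by decide) (by decide)).trans (if_pos rfl)
  have v1' : (r.val *ᵥ E (K := K) 39) p2 = 0 :=
    (RP_four 1 hr (s := 39) (p := 40) (by decide) (by decide)).trans (if_neg (by decide))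
  have v2' : (r.val *ᵥ E (K := K) 38) p2 = 0 :=
    (RP_four 1 hr (s := 38) (p := 40) (by decide) (by decide)).trans (if_neg (by decide))
  have v3' : (r.val *ᵥ E (K := K) 36) p2 = 0 :=
    (RP_four 1 hr (s := 36) (p := 40) (by decide) (by decide)).trans (if_neg (by decide))
  have e11 : (w * k).val p1 p1 = 1 := (congrFun m1 p1).trans w11
  have emn : mn (w * k).val = z := by
    have a22 := congrFun m2 p2
    simp only [Pi.add_apply, Pi.smul_apply, smul_eq_mul, v0', v1', v2', v3'] at a22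
    have a21 : (w * k).val p2 p1 = 0 := (congrFun m1 p2).trans
      (pos_blk hw.1 blk_tabs.2.2.1 p2 p1 (by rw [idx_p1]; exact X_p.2.2.2.2.2.2.2.2)
        (by rw [idx_p2]; exact X_p.2.2.2.2.2.1))
    rw [mn, e11, a21, a22, ← hsv, hF, hq]
    simp only [quad]
    linear_combination (σ t * t * (σ s * s + v0)) * h2
  rw [← eg, e11, mul_one] at g1
  rw [← eg, emn, hz, Units.mul_inv] at g2
  obtain ⟨d, hd, d0, d1, v', hv', w', hw', e'⟩ := cell_of_corner hgf (by rw [g1]; exact Units.ne_zero _)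
    (by rw [g2]; exact one_ne_zero)
  refine ⟨d, hd, Units.ext (by rw [d0, g1]), Units.ext (by rw [d1, g2, Units.val_one]),
    k⁻¹ * x, mul_mem (inv_mem hkf) hx, v', hv', w', hw', ?_⟩
  rw [← e', hg]; group

theorem neg_tab : ∀ j : Fin 2, ∀ r ∈ cmpP j, auxF4.neg r ∈ cmpN j := by decide +kernel

omit [Fintype K] in
/-- a lower element whose mirror lies in the upper complement -/
theorem RN_of_mirror (j : Fin 2) {v : G₄} (h : wz σ * v * (wz σ)⁻¹ ∈ RP K j) : v ∈ RN K j := by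
  obtain ⟨s, hs, hneg⟩ := wz_acts (σ := σ) (K := K)
  have h1 : wz σ * (wz σ * v * (wz σ)⁻¹) * (wz σ)⁻¹ ∈ RN K j :=
    conj_UL (fun r hr t => by
      obtain ⟨κ, -, hκ⟩ := hs.conj r (nroots_eq.symm ▸ ((cmp_lt j).1 r hr).1)
      rw [hκ, hneg r (nroots_eq.symm ▸ ((cmp_lt j).1 r hr).1)]
      exact xG_mem_UL g₄ (neg_tab j r hr) _) h
  have hd : wz σ * wz σ ∈ chevF4.diagonalSubgroup K := by
    refine mem_diag_of_id stdF4 (mul_mem wz_monomial wz_monomial) (hs.mul hs) fun r hr => ?_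
    show s (s r) = r
    rw [hneg r hr, hneg _ (stdF4.good.neg_lt r hr), stdF4.good.neg_neg r hr]
  rw [diagonalSubgroup_eq g₄] at hd
  obtain ⟨a, ha⟩ := hd
  rw [show v = (wz σ * wz σ)⁻¹ * (wz σ * (wz σ * v * (wz σ)⁻¹) * (wz σ)⁻¹) * (wz σ * wz σ) by group,
    ← ha, ← map_inv]
  have e2 : tor chevF4 auxF4 a = (tor chevF4 auxF4 a⁻¹ : G₄)⁻¹ := by rw [map_inv, inv_inv]
  conv => rw [e2]
  refine conj_UL (fun r hr t => ?_) h1
  rw [tor_conj_xG g₄ _ (nroots_eq.symm ▸ ((cmp_lt j).2 r hr).1)]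
  exact xG_mem_UL g₄ hr _

omit [Fintype K] in
theorem tor_conj_V {c : Fin chevF4.rank → Kˣ} (hc : c ∈ (F42.tw σ).thetaFix) (j : Fin 2) {k : G₄}
    (hk : k ∈ (F42.tw σ).V (foldF42.w j.val)) :
    tor chevF4 auxF4 c * k * (tor chevF4 auxF4 c)⁻¹ ∈ (F42.tw σ).V (foldF42.w j.val) :=
  ⟨conj_UP_le (σ := id) (acts_tor g₄ c) (fun r hr => hr.1.1) (fun r t hr => xG_mem_UP g₄ hr t) hk.1,
    Subgroup.mul_mem _ (Subgroup.mul_mem _ (tor_fix hc) hk.2) (Subgroup.inv_mem _ (tor_fix hc))⟩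

/-- some orbit element not commuting with the torus element lets a move start -/
theorem St.exists_rep (hi : F42.Inv2 σ) (j : Fin 2) {y : G₄} {c : Fin chevF4.rank → Kˣ}
    (hc : c ∈ (F42.tw σ).thetaFix) (hs : St σ y c) {k : G₄}
    (hk : k ∈ (F42.tw σ).V (foldF42.w j.val))
    (hne : tor chevF4 auxF4 c * k * (tor chevF4 auxF4 c)⁻¹ ≠ k) :
    Rep σ j y c ∨ Rep σ j y⁻¹ c := by
  obtain ⟨x, hx, v, hv, w, hw, e⟩ := hs
  obtain ⟨r, hr, a, ha, ew⟩ := split_UT (σ := σ) j hw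
  by_cases ha1 : a = 1
  swap
  · exact Or.inl ⟨x, hx, v, hv, r, hr, a, ha, ha1, by rw [← ew]; exact e, ew ▸ hw⟩
  have hwm := wz_conj_neg (σ := σ) (inv_mem hv)
  obtain ⟨r', hr', b, hb, ev'⟩ := split_UT (σ := σ) j hwm
  by_cases hb1 : b = 1
  swap
  · right
    refine ⟨wz σ * x, mul_mem wz_fix hx, _, wz_conj_pos (inv_mem hw), r', hr', b, hb, hb1, ?_, ev' ▸ hwm⟩
    have e2 : x * y⁻¹ * x⁻¹ = w⁻¹ * (tor chevF4 auxF4 c)⁻¹ * v⁻¹ := by
      have := congrArg (·⁻¹) e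
      simp only [_root_.mul_inv_rev, inv_inv, mul_assoc] at this ⊢
      exact this
    have e3 : wz σ * (tor chevF4 auxF4 c)⁻¹ * (wz σ)⁻¹ = tor chevF4 auxF4 c := by
      rw [← map_inv, wz_conj_tor, map_inv, inv_inv]
    rw [← ev', show wz σ * x * y⁻¹ * (wz σ * x)⁻¹ = wz σ * (x * y⁻¹ * x⁻¹) * (wz σ)⁻¹ by group, e2]
    conv_rhs => rw [← e3]
    group
  left
  rw [hb1, mul_one] at ev'
  rw [ha1, mul_one] at ew
  have hvN : v ∈ RN K j := by
    refine inv_mem_iff.1 (RN_of_mirror (σ := σ) j ?_)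
    rw [ev']; exact hr'
  obtain ⟨nP, nN⟩ := nor_V hi j hk
  set T := tor chevF4 auxF4 c with hT
  have hc' : c⁻¹ ∈ (F42.tw σ).thetaFix := inv_mem hc
  have hk2 : T⁻¹ * k * T ∈ (F42.tw σ).V (foldF42.w j.val) := by
    have := tor_conj_V hc' j hk
    rwa [map_inv, inv_inv] at this
  set b := T⁻¹ * k * T * k⁻¹ with hbd
  have hbV : b ∈ (F42.tw σ).V (foldF42.w j.val) := mul_mem hk2 (inv_mem hk)
  have hbne : b ≠ 1 := fun h0 => hne (by
    have h1 : T⁻¹ * k * T = k := mul_inv_eq_one.1 h0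
    conv_lhs => rw [← h1]
    group)
  obtain ⟨bP, -⟩ := nor_V hi j hbV
  refine ⟨k * x, mul_mem hk.2 hx, k * v * k⁻¹, ⟨RN_le j (nN v hvN),
      Subgroup.mul_mem _ (Subgroup.mul_mem _ hk.2 hv.2) (Subgroup.inv_mem _ hk.2)⟩,
    b * (k * r * k⁻¹) * b⁻¹, bP _ (nP r hr), b, hbV, hbne, ?_, ?_⟩
  · rw [show k * x * y * (k * x)⁻¹ = k * (x * y * x⁻¹) * k⁻¹ by group, e, ew, hbd, ← hT]
    group
  · rw [inv_mul_cancel_right]
    refine Subgroup.mul_mem _ ((F42.tw σ).V_le_pos _ hbV) ⟨RP_le j (nP r hr), ?_⟩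
    rw [← ew]
    exact Subgroup.mul_mem _ (Subgroup.mul_mem _ hk.2 hw.2) (Subgroup.inv_mem _ hk.2)

theorem St.of_inv {y : G₄} {c : Fin chevF4.rank → Kˣ} (h : St σ y⁻¹ c) : St σ y c := inv_inv y ▸ h.inv

theorem chi_orb (c : Fin chevF4.rank → Kˣ) :
    chi chevF4 auxF4 c 33 = c (ix 0) ^ 2 * (c (ix 1))⁻¹ ∧
    chi chevF4 auxF4 c 27 = c (ix 1) ^ 2 * (c (ix 0))⁻¹ * (c (ix 2))⁻¹ ∧
    chi chevF4 auxF4 c 25 = c (ix 2) ^ 2 * (c (ix 1) ^ 2)⁻¹ * (c (ix 3))⁻¹ := by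
  have key : ∀ r, chi chevF4 auxF4 c r = ∏ i : Fin 4, c (ix i) ^ auxF4.cart i.val r := fun r => rfl
  have tab : ∀ i : Fin 4, auxF4.cart i.val 33 = [2, -1, 0, 0].getD i.val 0 ∧
      auxF4.cart i.val 27 = [-1, 2, -1, 0].getD i.val 0 ∧
      auxF4.cart i.val 25 = [0, -2, 2, -1].getD i.val 0 := by decide +kernel
  refine ⟨?_, ?_, ?_⟩ <;>
    simp [key, Fin.prod_univ_four, (tab _).1, (tab _).2.1, (tab _).2.2, _root_.zpow_neg, zpow_ofNat,
      mul_comm, mul_left_comm]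

theorem move0 (hi : F42.Inv2 σ) {y : G₄} (hy : y ∈ (F42.tw σ).fix) {c : Fin chevF4.rank → Kˣ}
    (hc : c ∈ (F42.tw σ).thetaFix) (hs : St σ y c) (h : chi chevF4 auxF4 c 33 ≠ 1) :
    ∃ d ∈ (F42.tw σ).thetaFix, d (ix 0) = 1 ∧ d (ix 1) = c (ix 1) ∧ St σ y d := by
  have hk : xx 33 (σ 1) * xx 24 (1 : K) ∈ (F42.tw σ).V (foldF42.w (0 : Fin 2).val) :=
    ((F42.class0 hi).2 _).2 ⟨1, rfl⟩
  have hne : tor chevF4 auxF4 c * (xx 33 (σ 1) * xx 24 (1 : K)) * (tor chevF4 auxF4 c)⁻¹ ≠ xx 33 (σ 1) * xx 24 (1 : K) := by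
    intro e
    rw [← conj_mul, tor_conj_xG g₄ c (show 33 < chevF4.nroots by decide +kernel),
      tor_conj_xG g₄ c (show 24 < chevF4.nroots by decide +kernel), map_one, mul_one, mul_one] at e
    have e' : pw g₄ [24, 33] (fun i => (chi chevF4 auxF4 c i : K)) = pw g₄ [24, 33] (fun _ => 1) := by
      simp only [pw, List.map_cons, List.map_nil, List.prod_cons, List.prod_nil, mul_one]
      rw [(F42.commP (r := 24) (s := 33) (by decide +kernel) _ _).eq,
        (F42.commP (r := 24) (s := 33) (by decide +kernel) _ _).eq]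
      exact e
    exact h (Units.ext (pw_filter_inj stdF4 (by decide +kernel) e' 33 (by simp)))
  rcases hs.exists_rep hi 0 hc hk hne with hr | hr
  · exact hr.step0 hi hy hc
  · obtain ⟨d, hd, a, b, hst⟩ := hr.step0 hi (inv_mem hy) hc
    exact ⟨d, hd, a, b, hst.of_inv⟩

theorem move1 (hi : F42.Inv2 σ) {y : G₄} (hy : y ∈ (F42.tw σ).fix) {c : Fin chevF4.rank → Kˣ}
    (hc : c ∈ (F42.tw σ).thetaFix) (hs : St σ y c)
    (h : chi chevF4 auxF4 c 27 ≠ 1 ∨ chi chevF4 auxF4 c 25 ≠ 1) :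
    ∃ d ∈ (F42.tw σ).thetaFix, d (ix 0) = c (ix 0) ∧ d (ix 1) = 1 ∧ St σ y d := by
  have hk : W (quad σ (1 : K) 0) ∈ (F42.tw σ).V (foldF42.w (1 : Fin 2).val) :=
    ((F42.class1 hi).2 _).2 ⟨1, 0, rfl⟩
  have hne : tor chevF4 auxF4 c * (W (quad σ (1 : K) 0)) * (tor chevF4 auxF4 c)⁻¹ ≠ W (quad σ (1 : K) 0) := by
    intro e
    simp only [F42.W, quad, map_one, map_zero, mul_one, add_zero, zero_pow two_ne_zero, xx,
      xG_zero] at e
    rw [← conj_mul, ← conj_mul, tor_conj_xG g₄ c (show 27 < chevF4.nroots by decide +kernel),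
      tor_conj_xG g₄ c (show 25 < chevF4.nroots by decide +kernel),
      tor_conj_xG g₄ c (show 28 < chevF4.nroots by decide +kernel)] at e
    have e1 : ∀ a b d : K, xG g₄ 27 a * xG g₄ 25 b * xG g₄ 28 d = W (a, b, d, 0) := fun a b d => by
      simp [F42.W, xx, xG_zero]
    rw [e1, e1] at e
    have := F42.W_inj e
    simp only [Prod.mk.injEq, mul_one] at this
    rcases h with h | h
    · exact h (Units.ext this.1)
    · exact h (Units.ext this.2.1)
  rcases hs.exists_rep hi 1 hc hk hne with hr | hr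
  · exact hr.step1 hi hy hc
  · obtain ⟨d, hd, a, b, hst⟩ := hr.step1 hi (inv_mem hy) hc
    exact ⟨d, hd, a, b, hst.of_inv⟩

omit [Fintype K] in
theorem thetaFix_eq {c d : Fin chevF4.rank → Kˣ} (hc : c ∈ (F42.tw σ).thetaFix)
    (hd : d ∈ (F42.tw σ).thetaFix) (h0 : c (ix 0) = d (ix 0)) (h1 : c (ix 1) = d (ix 1)) : c = d := by
  obtain ⟨-, -, a2, a3⟩ := F42.theta_ix (σ := σ) c
  obtain ⟨-, -, b2, b3⟩ := F42.theta_ix (σ := σ) d
  rw [(F42.tw σ).mem_thetaFix.1 hc] at a2 a3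
  rw [(F42.tw σ).mem_thetaFix.1 hd] at b2 b3
  refine F42.ext_ix fun k => ?_
  fin_cases k
  exacts [h0, h1, Units.ext ((a2.trans (by rw [h1])).trans b2.symm), Units.ext ((a3.trans (by rw [h0])).trans b3.symm)]

omit [Fintype K] in
theorem sigma_one {c : Fin chevF4.rank → Kˣ} (hc : c ∈ (F42.tw σ).thetaFix) :
    (c (ix 0) = 1 → c (ix 3) = 1) ∧ (c (ix 1) = 1 → c (ix 2) = 1) := by
  obtain ⟨-, -, a2, a3⟩ := F42.theta_ix (σ := σ) c
  rw [(F42.tw σ).mem_thetaFix.1 hc] at a2 a3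
  exact ⟨fun h => Units.ext (by rw [a3, h]; simp), fun h => Units.ext (by rw [a2, h]; simp)⟩

/-- the diagonal part can be removed -/
theorem St.to_one (hi : F42.Inv2 σ) {y : G₄} (hy : y ∈ (F42.tw σ).fix)
    {c : Fin chevF4.rank → Kˣ} (hc : c ∈ (F42.tw σ).thetaFix) (hs : St σ y c) : St σ y 1 := by
  have h2 : ∀ a : Kˣ, a ^ 2 = 1 → a = 1 := fun a ha => by
    have h : (a : K) ^ 2 = 1 := by rw [← Units.val_pow_eq_pow_val, ha, Units.val_one]
    exact Units.ext (by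
      rw [Units.val_one]
      exact sub_eq_zero.1 (eq_zero_of_pow_eq_zero (n := 2)
        (by linear_combination h + (1 - (a : K)) * (CharTwo.two_eq_zero (R := K)))))
  -- first the node of type `B2`
  suffices key : ∀ c ∈ (F42.tw σ).thetaFix, St σ y c → c (ix 1) = 1 → St σ y 1 by
    by_cases hA : chi chevF4 auxF4 c 27 ≠ 1 ∨ chi chevF4 auxF4 c 25 ≠ 1
    · obtain ⟨d, hd, -, d1, hst⟩ := move1 hi hy hc hs hA
      exact key d hd hst d1
    by_cases hc1 : c (ix 1) = 1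
    · exact key c hc hs hc1
    push Not at hA
    obtain ⟨t33, t27, t25⟩ := chi_orb c
    rw [t27, t25] at hA
    have hB : chi chevF4 auxF4 c 33 ≠ 1 := by
      rw [t33, ne_eq, mul_inv_eq_one]
      intro e
      have e3 : c (ix 3) ^ 2 = c (ix 2) := by
        obtain ⟨-, -, a2, a3⟩ := F42.theta_ix (σ := σ) c
        rw [(F42.tw σ).mem_thetaFix.1 hc] at a2 a3
        refine Units.ext ?_
        rw [Units.val_pow_eq_pow_val, a2, a3, ← e, Units.val_pow_eq_pow_val, map_pow]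
      obtain ⟨p, q⟩ := hA
      rw [← e, ← e3] at p q
      refine hc1 ?_
      have f1 : c (ix 0) ^ 3 = c (ix 3) ^ 2 := by
        rw [mul_inv_eq_one, mul_inv_eq_iff_eq_mul, ← pow_mul] at p
        exact mul_right_cancel (((pow_succ _ 3).symm.trans p))
      have f2 : c (ix 3) ^ 3 = c (ix 0) ^ 4 := by
        rw [mul_inv_eq_one, mul_inv_eq_iff_eq_mul, ← pow_mul, ← pow_mul] at q
        rw [← mul_left_inj (c (ix 3)), ← pow_succ, q]
        exact mul_comm _ _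
      have f3 : c (ix 3) = c (ix 0) := by
        have : c (ix 3) ^ 3 * c (ix 0) ^ 3 = c (ix 0) ^ 4 * c (ix 3) ^ 2 := by rw [f2, f1]
        calc c (ix 3) = c (ix 3) ^ 3 * c (ix 0) ^ 3 * (c (ix 0) ^ 3 * c (ix 3) ^ 2)⁻¹ := by
              apply Additive.ofMul.injective
              simp only [ofMul_mul, ofMul_inv, ofMul_pow]; abel
          _ = c (ix 0) ^ 4 * c (ix 3) ^ 2 * (c (ix 0) ^ 3 * c (ix 3) ^ 2)⁻¹ := by rw [this]
          _ = c (ix 0) := by
              apply Additive.ofMul.injective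
              simp only [ofMul_mul, ofMul_inv, ofMul_pow]; abel
      rw [f3, pow_succ, mul_eq_left] at f1
      rw [← e, f1, one_pow]
    obtain ⟨d, hd, d0, d1, hst⟩ := move0 hi hy hc hs hB
    obtain ⟨t33', t27', t25'⟩ := chi_orb d
    obtain ⟨-, -, a2, -⟩ := F42.theta_ix (σ := σ) d
    rw [(F42.tw σ).mem_thetaFix.1 hd] at a2
    have hA' : chi chevF4 auxF4 d 27 ≠ 1 ∨ chi chevF4 auxF4 d 25 ≠ 1 := by
      by_contra hcon
      push Not at hcon
      obtain ⟨p, q⟩ := hcon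
      rw [t27', d0, inv_one, mul_one, mul_inv_eq_one] at p
      rw [t25', (sigma_one hd).1 d0, inv_one, mul_one, mul_inv_eq_one, ← p] at q
      refine hc1 (d1 ▸ h2 _ ?_)
      -- the fourth power equals the square
      have h3 : (d (ix 1) ^ 2) ^ 2 * (d (ix 1) ^ 2)⁻¹ = 1 := mul_inv_eq_one.2 q
      rw [sq (d (ix 1) ^ 2), mul_inv_cancel_right] at h3
      exact h3
    obtain ⟨d', hd', -, d1', hst'⟩ := move1 hi hy hd hst hA'
    exact key d' hd' hst' d1'
  intro c hc hs hc1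
  by_cases hc0 : c (ix 0) = 1
  · rwa [thetaFix_eq hc (one_mem _) (hc0.trans rfl) (hc1.trans rfl)] at hs
  · have hB : chi chevF4 auxF4 c 33 ≠ 1 := by
      rw [(chi_orb c).1, hc1, inv_one, mul_one]
      exact fun e => hc0 (h2 _ e)
    obtain ⟨d, hd, d0, d1, hst⟩ := move0 hi hy hc hs hB
    rwa [thetaFix_eq hd (one_mem _) (d0.trans rfl) ((d1.trans hc1).trans rfl)] at hst

/-- every element is conjugate to a product of two unipotent elements -/
theorem exists_vw (hi : F42.Inv2 σ) (h8 : 8 ≤ Fintype.card K) {y : G₄} (hy : y ∈ (F42.tw σ).fix) :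
    ∃ x ∈ (F42.tw σ).fix, ∃ v ∈ LT σ, ∃ w ∈ UT σ, x * y * x⁻¹ = v * w := by
  obtain ⟨c, hc, hs⟩ := exists_cell hi h8 hy
  obtain ⟨x, hx, v, hv, w, hw, e⟩ := hs.to_one hi hy hc
  exact ⟨x, hx, v, hv, w, hw, by rwa [map_one, mul_one] at e⟩

end CfsgLib.ThompsonF42
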