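import Cfsg.Agent.Lib.KnownB.ThompsonF42.Cell
import Cfsg.Agent.Lib.Chev.Twist.SplitElem

/-!
The two rank one orbits: the complement in the unipotent radical, and the vectors moved inside.
-/

set_option autoImplicit false
set_option maxRecDepth 100000

namespace CfsgLib.ThompsonF42

open Cfsg.Lie Matrix CfsgLib.Chev CfsgLib.Chev.OrdList
open CfsgLib.Chev.F42 (xx W quad ix)

variable {K : Type*} [Field K] [CharP K 2] {σ : K →+* K}

local notation "g₄" => stdF4.good
local notation "G₄" => GL chevF4.Idx K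

/-- the positive roots of an orbit -/
def orbR (j : Fin 2) : List ℕ := if j = 0 then [24, 33] else [25, 27, 28, 30]

/-- the other positive roots -/
def cmpP (j : Fin 2) : List ℕ := posL.filter fun r => !(orbR j).contains r

/-- the other negative roots -/
noncomputable def cmpN (j : Fin 2) : List ℕ := (cmpP j).map auxF4.neg

/-- the level of a root away from an orbit -/
noncomputable def lv (j : Fin 2) (r : ℕ) : ℤ :=
  if j = 0 then auxF4.a r 1 + auxF4.a r 2 else auxF4.a r 0 + auxF4.a r 3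

/-- the level of a numbered coordinate -/
noncomputable def lN (j : Fin 2) (k : ℕ) : ℤ := if k < 4 then 0 else lv j (k - 4)

theorem cmp_lt : ∀ j : Fin 2, (∀ r ∈ cmpP j, r < 48 ∧ chevF4.IsPosRoot r) ∧
    ∀ r ∈ cmpN j, r < 48 ∧ chevF4.IsNegRoot r := by decide +kernel

theorem raise_tab : ∀ j : Fin 2, ∀ r ∈ cmpP j, ∀ c < 52,
    (auxF4.col 4 48 r c).all (fun q => decide (lN j c < lN j q.1)) = true := by decide +kernel

theorem norm_tab : ∀ j : Fin 2, ∀ o ∈ orbR j, (∀ r ∈ cmpP j, pairChk chevF4 auxF4 o r (cmpP j) = true) ∧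
    ∀ r ∈ cmpN j, pairChk chevF4 auxF4 o r (cmpN j) = true := by decide +kernel

/-- the upper complement -/
noncomputable def RP (K : Type*) [Field K] (j : Fin 2) : Subgroup (GL chevF4.Idx K) :=
  UL K stdF4.good (cmpP j)
/-- the lower complement -/
noncomputable def RN (K : Type*) [Field K] (j : Fin 2) : Subgroup (GL chevF4.Idx K) :=
  UL K stdF4.good (cmpN j)

omit [CharP K 2] in
theorem RP_le (j : Fin 2) : RP K j ≤ chevF4.posUnipotent K := by
  rw [posUnipotent_eq g₄]
  refine (Subgroup.closure_le _).2 ?_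
  rintro _ ⟨r, t, hr, rfl⟩
  exact xG_mem_UP g₄ ((cmp_lt j).1 r hr).2 t

omit [CharP K 2] in
theorem RN_le (j : Fin 2) : RN K j ≤ chevF4.negUnipotent K := by
  rw [negUnipotent_eq g₄]
  refine (Subgroup.closure_le _).2 ?_
  rintro _ ⟨r, t, hr, rfl⟩
  exact xG_mem_UP g₄ ((cmp_lt j).2 r hr).2 t

/-- complement elements are unitriangular for the level -/
theorem RP_tri (j : Fin 2) {u : G₄} (hu : u ∈ RP K j) (x y : chevF4.Idx)
    (h : lN j (idx chevF4 x) ≤ lN j (idx chevF4 y)) : u.val x y = if x = y then 1 else 0 := by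
  have hle : RP K j ≤ triG (fun x => lN j (idx chevF4 x)) 0 le_rfl := by
    refine (Subgroup.closure_le _).2 ?_
    rintro _ ⟨r, t, hr, rfl⟩
    have hr48 := ((cmp_lt j).1 r hr).1
    have key : ∀ t : K, Tri (fun x => lN j (idx chevF4 x)) 0 (chevF4.x K r t) := by
      intro t x y hxy
      rw [x_apply hr48 t x y, List.sum_eq_zero, add_zero]
      intro v hv
      obtain ⟨q, hq, rfl⟩ := List.mem_map.1 hv
      have := of_decide_eq_true (List.all_eq_true.1 (raise_tab j r hr _ (idx_lt52 y)) q hq)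
      rw [if_neg]
      intro e
      simp only [e, add_zero] at hxy
      omega
    exact ⟨by rw [xG_val]; exact key t, by rw [xG_inv, xG_val]; exact key (-t)⟩
  exact (hle hu).1 x y (by simpa using h)

/-- a product over the roots of an orbit normalises both complements -/
theorem orb_conj (j : Fin 2) {o : ℕ} (ho : o ∈ orbR j) (t : K) :
    (∀ z ∈ RP K j, xG g₄ o t * z * (xG g₄ o t)⁻¹ ∈ RP K j) ∧
      ∀ z ∈ RN K j, xG g₄ o t * z * (xG g₄ o t)⁻¹ ∈ RN K j := by
  constructor <;> intro z hz <;> refine conj_UL (fun r hr u => ?_) hz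
  · obtain ⟨w, hw, e⟩ := pair_conj stdF4 ((norm_tab j o ho).1 r hr) t u
    rw [e]; exact mul_mem (xG_mem_UL g₄ hr u) hw
  · obtain ⟨w, hw, e⟩ := pair_conj stdF4 ((norm_tab j o ho).2 r hr) t u
    rw [e]; exact mul_mem (xG_mem_UL g₄ hr u) hw

/-- elements normalising both complements -/
def Nor (j : Fin 2) (k : G₄) : Prop :=
  (∀ z ∈ RP K j, k * z * k⁻¹ ∈ RP K j) ∧ ∀ z ∈ RN K j, k * z * k⁻¹ ∈ RN K j

theorem Nor.mul {j : Fin 2} {a b : G₄} (ha : Nor j a) (hb : Nor j b) : Nor j (a * b) := by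
  constructor <;> intro z hz <;> rw [show a * b * z * (a * b)⁻¹ = a * (b * z * b⁻¹) * a⁻¹ by group]
  · exact ha.1 _ (hb.1 z hz)
  · exact ha.2 _ (hb.2 z hz)

theorem nor_x {j : Fin 2} {o : ℕ} (ho : o ∈ orbR j) (t : K) : Nor j (xG g₄ o t) := orb_conj j ho t

theorem nor_V [Fintype K] (hi : F42.Inv2 σ) (j : Fin 2) {k : G₄}
    (hk : k ∈ (F42.tw σ).V (foldF42.w j.val)) : Nor j k := by
  fin_cases j
  · obtain ⟨t, rfl⟩ := ((F42.class0 hi).2 k).1 hk
    exact (nor_x (by decide) _).mul (nor_x (by decide) _)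
  · obtain ⟨t, u, rfl⟩ := ((F42.class1 hi).2 k).1 hk
    exact (((nor_x (by decide) _).mul (nor_x (by decide) _)).mul (nor_x (by decide) _)).mul
      (nor_x (by decide) _)

theorem split_tab : ∀ j : Fin 2, ∀ r < 48, chevF4.IsPosRoot r →
    chevF4.IsPosRoot (wf auxF4 (foldF42.w j.val) r) → wf auxF4 (foldF42.w j.val) r ∈ cmpP j := by
  decide +kernel

theorem orbit_head : ∀ j : Fin 2, (([0, 1] : List ℕ).getD j.val 0) ∈ foldF42.J j.val := by decide +kernel

/-- splitting an orbit off on the right -/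
theorem split_UT [Fintype K] (j : Fin 2) {w : G₄} (hw : w ∈ UT σ) :
    ∃ r ∈ RP K j, ∃ c ∈ (F42.tw σ).V (foldF42.w j.val), w = r * c := by
  have hj : j.val < foldF42.num := j.isLt
  obtain ⟨he, hcnt, hneg⟩ := (exists_long σ).choose_spec
  set top := foldF42.flat (exists_long σ).choose.word
  have hl : Letters chevF4 top := (F42.tw σ).valid.flat_letters (ftabF42_ok.letters _ he)
  rw [UT, (F42.tw σ).pos_eq_V ftabF42_ok he hcnt] at hw
  set i := ([0, 1] : List ℕ).getD j.val 0
  have hi : i < chevF4.rank := (F42.tw σ).valid.J_lt _ hj i (orbit_head j)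
  have hn : ¬ chevF4.IsPosRoot (wf auxF4 top (chevF4.simple i)) := by
    rw [hneg _ (stdF4.good.simple_lt i hi)]
    exact not_pos_neg g₄ (simple_pos g₄ hi)
  obtain ⟨a, ha, c, hc, e⟩ := (F42.tw σ).V_split_elem hl
    (fun r hr => Fold.Valid.flat_comm g₄ (F42.tw σ).valid (ftabF42_ok.letters _ he) hr)
    hj (orbit_head j) hn hw
  refine ⟨_, ?_, c, hc, e⟩
  refine conj_UP_le ((F42.tw σ).nJ_acts hj) (fun r hr => hr.1.1) (fun r t hr => xG_mem_UL g₄ ?_ t) ha.1
  have hr1 := hr.1.1
  have hlt := wf_lt g₄ ((F42.tw σ).valid.letters hj) hr1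
  refine split_tab j r (nroots_eq ▸ hr1) hr.1 ?_
  have h2 := hr.2
  rw [wf_append, hneg _ hlt] at h2
  exact (pos_or_pos_neg g₄ hlt).resolve_right (not_pos_of_isNeg g₄ h2)

/-- a root element fixing a coordinate vector -/
theorem x_fix {r : ℕ} (hr : r < 48) (t : K) (s : ℕ)
    (h : (auxF4.col 4 48 r (4 + s)).all (fun q => decide (q.2.1 % 2 = 0)) = true) :
    (xx r t).val *ᵥ ev chevF4 K (4 + s) = ev chevF4 K (4 + s) := by
  rw [xG_val, x_mulVec stdF4.good (show r < chevF4.nroots by rw [nroots_eq]; exact hr),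
    show auxF4.col chevF4.rank chevF4.nroots = auxF4.col 4 48 by rw [nroots_eq]; rfl, add_eq_left]
  revert h
  generalize auxF4.col 4 48 r (4 + s) = L
  intro h
  induction L with
  | nil => rfl
  | cons q L ih =>
    rw [List.all_cons, Bool.and_eq_true, decide_eq_true_eq] at h
    rw [tval_cons, ih h.2, cast_even h.1]
    simp

/-- a root element adding one coordinate vector -/
theorem x_step {r : ℕ} (hr : r < 48) (t : K) (s s' : ℕ)
    (h : auxF4.col 4 48 r (4 + s) = [(4 + s', 1, 1)] ∨ auxF4.col 4 48 r (4 + s) = [(4 + s', -1, 1)]) :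
    (xx r t).val *ᵥ ev chevF4 K (4 + s) = ev chevF4 K (4 + s) + t • ev chevF4 K (4 + s') := by
  rw [xG_val, x_mulVec stdF4.good (show r < chevF4.nroots by rw [nroots_eq]; exact hr),
    show auxF4.col chevF4.rank chevF4.nroots = auxF4.col 4 48 by rw [nroots_eq]; rfl]
  rcases h with h | h <;> simp [h, tval_cons, CharTwo.neg_eq]

/-- the coordinate vector of a root -/
noncomputable abbrev E (s : ℕ) : chevF4.Idx → K := ev chevF4 K (4 + s)

/-- the lower pair on the two top vectors -/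
theorem npair_vec (a b : K) :
    (xx 14 a * xx 23 b).val *ᵥ E (K := K) 44 = E 44 + a • E 40 ∧
      (xx 14 a * xx 23 b).val *ᵥ E (K := K) 40 = E 40 := by
  have h1 : (xx 23 b).val *ᵥ E (K := K) 44 = E 44 := x_fix (by norm_num) b 44 (by decide +kernel)
  have h2 : (xx 14 a).val *ᵥ E (K := K) 44 = E 44 + a • E 40 :=
    x_step (by norm_num) a 44 40 (by decide +kernel)
  have h3 : (xx 23 b).val *ᵥ E (K := K) 40 = E 40 := x_fix (by norm_num) b 40 (by decide +kernel)
  have h4 : (xx 14 a).val *ᵥ E (K := K) 40 = E 40 := x_fix (by norm_num) a 40 (by decide +kernel)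
  constructor <;> rw [Units.val_mul, ← mulVec_mulVec]
  · rw [h1, h2]
  · rw [h3, h4]

/-- the upper pair on the two top vectors -/
theorem pair_vec (a b : K) :
    (xx 33 a * xx 24 b).val *ᵥ E (K := K) 44 = E 44 ∧
      (xx 33 a * xx 24 b).val *ᵥ E (K := K) 40 = E 40 + a • E 44 := by
  have h1 : (xx 24 b).val *ᵥ E (K := K) 44 = E 44 := x_fix (by norm_num) b 44 (by decide +kernel)
  have h2 : (xx 33 a).val *ᵥ E (K := K) 44 = E 44 := x_fix (by norm_num) a 44 (by decide +kernel)
  have h3 : (xx 24 b).val *ᵥ E (K := K) 40 = E 40 := x_fix (by norm_num) b 40 (by decide +kernel)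
  have h4 : (xx 33 a).val *ᵥ E (K := K) 40 = E 40 + a • E 44 :=
    x_step (by norm_num) a 40 44 (by decide +kernel)
  constructor <;> rw [Units.val_mul, ← mulVec_mulVec]
  · rw [h1, h2]
  · rw [h3, h4]

/-- the lower word of type `B2` on the two top vectors -/
theorem nW_vec (a b c d : K) :
    (xx 20 a * xx 22 b * xx 19 c * xx 17 d).val *ᵥ E (K := K) 44 = E 44 ∧
      (xx 20 a * xx 22 b * xx 19 c * xx 17 d).val *ᵥ E (K := K) 40 =
        E 40 + a • E 39 + c • E 38 + (d + a * c) • E 36 := by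
  have f44 : ∀ r ∈ [20, 22, 19, 17], ∀ t : K, (xx r t).val *ᵥ E (K := K) 44 = E 44 := by
    intro r hr t
    fin_cases hr <;> exact x_fix (by norm_num) t 44 (by decide +kernel)
  have a1 : (xx 17 d).val *ᵥ E (K := K) 40 = E 40 + d • E 36 := x_step (by norm_num) d 40 36 (by decide +kernel)
  have b1 : (xx 19 c).val *ᵥ E (K := K) 40 = E 40 + c • E 38 := x_step (by norm_num) c 40 38 (by decide +kernel)
  have b2 : (xx 19 c).val *ᵥ E (K := K) 36 = E 36 := x_fix (by norm_num) c 36 (by decide +kernel)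
  have c1 : (xx 22 b).val *ᵥ E (K := K) 40 = E 40 := x_fix (by norm_num) b 40 (by decide +kernel)
  have c2 : (xx 22 b).val *ᵥ E (K := K) 38 = E 38 := x_fix (by norm_num) b 38 (by decide +kernel)
  have c3 : (xx 22 b).val *ᵥ E (K := K) 36 = E 36 := x_fix (by norm_num) b 36 (by decide +kernel)
  have d1 : (xx 20 a).val *ᵥ E (K := K) 40 = E 40 + a • E 39 := x_step (by norm_num) a 40 39 (by decide +kernel)
  have d2 : (xx 20 a).val *ᵥ E (K := K) 38 = E 38 + a • E 36 := x_step (by norm_num) a 38 36 (by decide +kernel)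
  have d3 : (xx 20 a).val *ᵥ E (K := K) 36 = E 36 := x_fix (by norm_num) a 36 (by decide +kernel)
  constructor <;> simp only [Units.val_mul, ← mulVec_mulVec]
  · rw [f44 17 (by simp), f44 19 (by simp), f44 22 (by simp), f44 20 (by simp)]
  · simp only [a1, b1, b2, c1, c2, c3, d1, d2, d3, mulVec_add, mulVec_smul]
    module

/-- the upper word of type `B2` on the four vectors -/
theorem W_vec (a b c d A C D : K) :
    (W (a, b, c, d)).val *ᵥ (E (K := K) 40 + A • E 39 + C • E 38 + D • E 36) =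
      (1 + d * D + c * C + a * (A + c * D + b * C)) • E 40 + (A + c * D + b * C) • E 39 +
        (C + a * D) • E 38 + D • E 36 := by
  have p1 : (xx 30 d).val *ᵥ E (K := K) 40 = E 40 := x_fix (by norm_num) d 40 (by decide +kernel)
  have p2 : (xx 30 d).val *ᵥ E (K := K) 39 = E 39 := x_fix (by norm_num) d 39 (by decide +kernel)
  have p3 : (xx 30 d).val *ᵥ E (K := K) 38 = E 38 := x_fix (by norm_num) d 38 (by decide +kernel)
  have p4 : (xx 30 d).val *ᵥ E (K := K) 36 = E 36 + d • E 40 := x_step (by norm_num) d 36 40 (by decide +kernel)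
  have q1 : (xx 28 c).val *ᵥ E (K := K) 40 = E 40 := x_fix (by norm_num) c 40 (by decide +kernel)
  have q2 : (xx 28 c).val *ᵥ E (K := K) 39 = E 39 := x_fix (by norm_num) c 39 (by decide +kernel)
  have q3 : (xx 28 c).val *ᵥ E (K := K) 38 = E 38 + c • E 40 := x_step (by norm_num) c 38 40 (by decide +kernel)
  have q4 : (xx 28 c).val *ᵥ E (K := K) 36 = E 36 + c • E 39 := x_step (by norm_num) c 36 39 (by decide +kernel)
  have r1 : (xx 25 b).val *ᵥ E (K := K) 40 = E 40 := x_fix (by norm_num) b 40 (by decide +kernel)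
  have r2 : (xx 25 b).val *ᵥ E (K := K) 39 = E 39 := x_fix (by norm_num) b 39 (by decide +kernel)
  have r3 : (xx 25 b).val *ᵥ E (K := K) 38 = E 38 + b • E 39 := x_step (by norm_num) b 38 39 (by decide +kernel)
  have r4 : (xx 25 b).val *ᵥ E (K := K) 36 = E 36 := x_fix (by norm_num) b 36 (by decide +kernel)
  have s1 : (xx 27 a).val *ᵥ E (K := K) 40 = E 40 := x_fix (by norm_num) a 40 (by decide +kernel)
  have s2 : (xx 27 a).val *ᵥ E (K := K) 39 = E 39 + a • E 40 := x_step (by norm_num) a 39 40 (by decide +kernel)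
  have s3 : (xx 27 a).val *ᵥ E (K := K) 38 = E 38 := x_fix (by norm_num) a 38 (by decide +kernel)
  have s4 : (xx 27 a).val *ᵥ E (K := K) 36 = E 36 + a • E 38 := x_step (by norm_num) a 36 38 (by decide +kernel)
  simp only [F42.W, Units.val_mul, ← mulVec_mulVec, p1, p2, p3, p4, q1, q2, q3, q4, r1, r2, r3, r4,
    s1, s2, s3, s4, mulVec_add, mulVec_smul]
  module

end CfsgLib.ThompsonF42
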